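import Cfsg.Agent.Lib.Chars17.MatRep
import Cfsg.Agent.Lib.Characters.Decomp
import Cfsg.Agent.Lib.Characters.Extension
import Cfsg.Agent.Lib.Characters.LinearTwist
import Mathlib.LinearAlgebra.Matrix.StdBasis
import Mathlib.LinearAlgebra.Trace

/-!
# Matrix tools for irreducible representations

* `IrrModel K`: an irreducible matrix representation.
* `coef m T`: the function on `K` whose Fourier transform is `T` at `m` and zero elsewhere.
* `Intw α m m'`: an intertwiner between a model and a twisted model.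
* `proj π f`: the projection onto the `f`-eigenspace of a representation, `f` linear.
-/

set_option autoImplicit false
set_option linter.unusedSectionVars false

open Matrix Cfsg CfsgLib.Characters
open scoped ComplexConjugate

namespace CfsgLib.IsaacsOdd

universe u

/-! ## Sandwich operators -/

section Sand

variable {ι κ : Type*} [Fintype ι] [DecidableEq ι] [Fintype κ] [DecidableEq κ]

/-- The operator `y ↦ A y B`. -/
def sand (A : Matrix ι ι ℂ) (B : Matrix κ κ ℂ) : Module.End ℂ (Matrix ι κ ℂ) where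
  toFun y := A * y * B
  map_add' x y := by simp [Matrix.mul_add, Matrix.add_mul]
  map_smul' c y := by simp

@[simp] theorem sand_apply (A : Matrix ι ι ℂ) (B : Matrix κ κ ℂ) (y : Matrix ι κ ℂ) :
    sand A B y = A * y * B := rfl

theorem sand_mul (A A' : Matrix ι ι ℂ) (B B' : Matrix κ κ ℂ) :
    sand A B * sand A' B' = sand (A * A') (B' * B) := by
  refine LinearMap.ext fun y => ?_
  show A * (A' * y * B') * B = A * A' * y * (B' * B)
  simp only [Matrix.mul_assoc]

theorem sand_one : (sand (1 : Matrix ι ι ℂ) (1 : Matrix κ κ ℂ)) = 1 :=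
  LinearMap.ext fun y => by simp

theorem trace_sand (A : Matrix ι ι ℂ) (B : Matrix κ κ ℂ) :
    LinearMap.trace ℂ _ (sand A B) = A.trace * B.trace := by
  rw [LinearMap.trace_eq_matrix_trace ℂ (Matrix.stdBasis ℂ ι κ), Matrix.trace,
    Fintype.sum_prod_type]
  rw [Matrix.trace, Matrix.trace, Finset.sum_mul_sum]
  refine Finset.sum_congr rfl fun i _ => Finset.sum_congr rfl fun j _ => ?_
  rw [Matrix.diag_apply, LinearMap.toMatrix_apply, Matrix.stdBasis_eq_single]
  show ((Matrix.stdBasis ℂ ι κ).repr (A * Matrix.single i j (1 : ℂ) * B)) (i, j) = _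
  simp [Matrix.stdBasis, Matrix.mul_apply, Matrix.single_apply, Finset.sum_mul, ite_and,
    Finset.sum_ite_eq, Finset.sum_ite_eq']

variable {K : Type*} [Group K]

/-- The representation `k ↦ (y ↦ σ k y σ'(k)⁻¹)`. -/
def sandRep (σ : K →* Matrix ι ι ℂ) (σ' : K →* Matrix κ κ ℂ) :
    K →* Module.End ℂ (Matrix ι κ ℂ) where
  toFun k := sand (σ k) (σ' k⁻¹)
  map_one' := by rw [inv_one, map_one, map_one, sand_one]
  map_mul' a b := by rw [sand_mul, _root_.mul_inv_rev, map_mul, map_mul]

theorem sandRep_apply (σ : K →* Matrix ι ι ℂ) (σ' : K →* Matrix κ κ ℂ) (k : K) :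
    sandRep σ σ' k = sand (σ k) (σ' k⁻¹) := rfl

end Sand

/-! ## Projections on eigenspaces -/

section Proj

variable {K : Type*} [Group K] [Fintype K] {V : Type*} [AddCommGroup V] [Module ℂ V]
  {A : Type*} [Ring A] [Algebra ℂ A]

/-- The projection onto the `f`-eigenspace. -/
noncomputable def proj (π : K →* A) (f : K →* ℂˣ) : A :=
  (Nat.card K : ℂ)⁻¹ • ∑ k : K, ((f k : ℂ)⁻¹) • π k

theorem mul_proj (π : K →* A) (f : K →* ℂˣ) (a : K) :
    π a * proj π f = (f a : ℂ) • proj π f := by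
  rw [proj, mul_smul_comm, Finset.mul_sum, smul_comm]
  congr 1
  rw [Finset.smul_sum]
  refine Fintype.sum_equiv (Equiv.mulLeft a) _ _ fun k => ?_
  rw [mul_smul_comm, ← map_mul, smul_smul, Equiv.coe_mulLeft, map_mul f, Units.val_mul, mul_inv]
  congr 1
  field_simp

theorem proj_mul (π : K →* A) (f : K →* ℂˣ) (a : K) :
    proj π f * π a = (f a : ℂ) • proj π f := by
  rw [proj, smul_mul_assoc, Finset.sum_mul, smul_comm]
  congr 1
  rw [Finset.smul_sum]
  refine Fintype.sum_equiv (Equiv.mulRight a) _ _ fun k => ?_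
  rw [smul_mul_assoc, ← map_mul, smul_smul, Equiv.coe_mulRight, map_mul f, Units.val_mul, mul_inv]
  congr 1
  field_simp

theorem proj_mul_self (π : K →* A) (f : K →* ℂˣ) :
    proj π f * proj π f = proj π f := by
  nth_rewrite 1 [proj]
  rw [smul_mul_assoc, Finset.sum_mul]
  have h : ∀ k : K, ((f k : ℂ)⁻¹ • π k) * proj π f = proj π f := fun k => by
    rw [smul_mul_assoc, mul_proj, smul_smul, inv_mul_cancel₀ (Units.ne_zero _), one_smul]
  rw [Finset.sum_congr rfl fun k _ => h k, Finset.sum_const, Finset.card_univ, ← Nat.card_eq_fintype_card,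
    ← Nat.cast_smul_eq_nsmul ℂ, smul_smul, inv_mul_cancel₀ (Nat.cast_ne_zero.2 Nat.card_pos.ne'),
    one_smul]

theorem proj_mul_proj_of_ne (π : K →* A) {f g : K →* ℂˣ} (h : f ≠ g) :
    proj π f * proj π g = 0 := by
  obtain ⟨a, ha⟩ : ∃ a, f a ≠ g a := by
    by_contra hc
    push Not at hc
    exact h (MonoidHom.ext hc)
  have e1 : proj π f * π a * proj π g = (f a : ℂ) • (proj π f * proj π g) := by
    rw [proj_mul, smul_mul_assoc]
  have e2 : proj π f * π a * proj π g = (g a : ℂ) • (proj π f * proj π g) := by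
    rw [mul_assoc, mul_proj, mul_smul_comm]
  have e3 : ((f a : ℂ) - (g a : ℂ)) • (proj π f * proj π g) = 0 := by
    rw [sub_smul, ← e1, ← e2, sub_self]
  exact (smul_eq_zero.1 e3).resolve_left (sub_ne_zero.2 fun hc => ha (Units.ext hc))

/-- A vector is fixed by `proj π f` as soon as it is an `f`-eigenvector. -/
theorem proj_apply_of_eigen (π : K →* Module.End ℂ V) (f : K →* ℂˣ) {v : V}
    (h : ∀ k, π k v = (f k : ℂ) • v) : proj π f v = v := by
  simp only [proj, LinearMap.smul_apply, LinearMap.sum_apply, h, smul_smul,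
    inv_mul_cancel₀ (Units.ne_zero _), one_smul, Finset.sum_const, Finset.card_univ,
    ← Nat.cast_smul_eq_nsmul ℂ]
  rw [Nat.card_eq_fintype_card,
    inv_mul_cancel₀ (Nat.cast_ne_zero.2 Fintype.card_ne_zero), one_smul]

theorem eigen_proj_apply (π : K →* Module.End ℂ V) (f : K →* ℂˣ) (a : K) (v : V) :
    π a (proj π f v) = (f a : ℂ) • proj π f v :=
  congrArg (fun E : Module.End ℂ V => E v) (mul_proj π f a)

theorem trace_proj (π : K →* Module.End ℂ V) (f : K →* ℂˣ) :
    LinearMap.trace ℂ V (proj π f) =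
      (Nat.card K : ℂ)⁻¹ * ∑ k : K, (f k : ℂ)⁻¹ * LinearMap.trace ℂ V (π k) := by
  simp [proj]

theorem idempotent_eq_zero_of_trace [FiniteDimensional ℂ V] {E : Module.End ℂ V} (hE : E * E = E)
    (h : LinearMap.trace ℂ V E = 0) : E = 0 := by
  have hp : LinearMap.IsProj (LinearMap.range E) E :=
    ⟨fun v => LinearMap.mem_range_self E v, fun v hv => by
      obtain ⟨w, rfl⟩ := hv
      exact congrArg (fun F : Module.End ℂ V => F w) hE⟩
  have h2 := hp.trace
  rw [h] at h2
  have h3 : Module.finrank ℂ (LinearMap.range E) = 0 := by exact_mod_cast h2.symm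
  exact LinearMap.range_eq_bot.1 (Submodule.finrank_eq_zero.1 h3)

end Proj

/-! ## The transform of a function -/

section Sigma

variable {K : Type*} [Group K] [Fintype K] {ι : Type*} [Fintype ι] [DecidableEq ι]

/-- The transform of a function at a matrix representation. -/
noncomputable def sigmaFun (σ : K →* Matrix ι ι ℂ) (c : K → ℂ) : Matrix ι ι ℂ :=
  ∑ k : K, c k • σ k

theorem sigmaFun_sum {α : Type*} (s : Finset α) (σ : K →* Matrix ι ι ℂ) (c : α → K → ℂ) :
    sigmaFun σ (∑ i ∈ s, c i) = ∑ i ∈ s, sigmaFun σ (c i) := by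
  simp only [sigmaFun, Finset.sum_apply, Finset.sum_smul]
  exact Finset.sum_comm

theorem trace_mul_sigmaFun (σ : K →* Matrix ι ι ℂ) (c : K → ℂ) (A : Matrix ι ι ℂ) :
    (A * sigmaFun σ c).trace = ∑ k : K, c k * (A * σ k).trace := by
  simp [sigmaFun, Finset.mul_sum, Matrix.trace_sum]

theorem trace_sigmaFun (σ : K →* Matrix ι ι ℂ) (c : K → ℂ) :
    (sigmaFun σ c).trace = ∑ k : K, c k * (σ k).trace := by
  simp [sigmaFun, Matrix.trace_sum]

/-- Conjugation of a transform. -/
theorem conj_sigmaFun (σ : K →* Matrix ι ι ℂ) (c : K → ℂ) (α : K ≃* K) {Q Q' : Matrix ι ι ℂ}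
    (h : ∀ k, Q * σ k * Q' = σ (α k)) :
    Q * sigmaFun σ c * Q' = sigmaFun σ (fun k => c (α.symm k)) := by
  rw [sigmaFun, Finset.mul_sum, Finset.sum_mul, sigmaFun]
  refine Fintype.sum_equiv α.toEquiv _ _ fun k => ?_
  show Q * (c k • σ k) * Q' = c (α.symm (α k)) • σ (α k)
  rw [α.symm_apply_apply, ← h, Matrix.mul_smul, Matrix.smul_mul]

/-- An element commuting through a pair of representations commutes through the transforms. -/
theorem sigmaFun_intertwine {κ : Type*} [Fintype κ] [DecidableEq κ] (σ : K →* Matrix ι ι ℂ)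
    (σ' : K →* Matrix κ κ ℂ) (f : K →* ℂˣ) (c : K → ℂ) {y : Matrix ι κ ℂ}
    (hy : ∀ k, σ k * y = (f k : ℂ) • (y * σ' k)) :
    sigmaFun σ c * y = y * sigmaFun σ' (fun k => c k * (f k : ℂ)) := by
  simp only [sigmaFun, Matrix.sum_mul, Matrix.mul_sum]
  refine Finset.sum_congr rfl fun k _ => ?_
  rw [Matrix.smul_mul, hy, smul_smul, Matrix.mul_smul]

end Sigma

/-! ## Models -/

/-- An irreducible matrix representation. -/
structure IrrModel (K : Type u) [Group K] where
  /-- the degree -/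
  d : ℕ
  /-- the representation -/
  rho : K →* Matrix (Fin d) (Fin d) ℂ
  irr : IsIrrCharacter K fun k => (rho k).trace

namespace IrrModel

variable {K : Type u} [Group K] (m : IrrModel K)

/-- The character of a model. -/
def char : IrrCharacter K := ⟨fun k => (m.rho k).trace, m.irr⟩

theorem char_apply (k : K) : (m.char : K → ℂ) k = (m.rho k).trace := rfl

theorem char_one : (m.char : K → ℂ) 1 = (m.d : ℂ) := by
  rw [char_apply, map_one, Matrix.trace_one, Fintype.card_fin]

theorem d_ne_zero : (m.d : ℂ) ≠ 0 := fun h => irr_one_ne_zero m.char (by rw [char_one, h])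

instance nonempty_fin : Nonempty (Fin m.d) :=
  ⟨⟨0, Nat.pos_of_ne_zero fun h => m.d_ne_zero (by rw [h, Nat.cast_zero])⟩⟩

theorem nonempty_model (θ : IrrCharacter K) : ∃ m : IrrModel K, m.char = θ := by
  obtain ⟨n, M, -, hM⟩ := Chars17.IsIrrCharacter.exists_mat θ.2
  have h : (fun k => (M k).trace) = (θ : K → ℂ) := funext hM
  exact ⟨⟨n, M, h ▸ θ.2⟩, Subtype.ext h⟩

/-- A chosen model of an irreducible character. -/
noncomputable def of (θ : IrrCharacter K) : IrrModel K := (nonempty_model θ).choose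

theorem of_char (θ : IrrCharacter K) : (of θ).char = θ := (nonempty_model θ).choose_spec

variable [Finite K] in
/-- The twist of a model by a linear character. -/
def twist (f : K →* ℂˣ) : IrrModel K where
  d := m.d
  rho :=
    { toFun := fun k => (f k : ℂ) • m.rho k
      map_one' := by simp
      map_mul' := fun a b => by
        rw [map_mul, map_mul, Units.val_mul, Matrix.smul_mul, Matrix.mul_smul, smul_smul] }
  irr := by
    have h := CfsgLib.LinearTwist.isIrr_mul_hom m.irr f
    convert h using 1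
    funext k
    simp [mul_comm]

variable [Finite K] in
theorem twist_rho (f : K →* ℂˣ) (k : K) : (m.twist f).rho k = (f k : ℂ) • m.rho k := rfl

variable [Finite K] in
theorem twist_char (f : K →* ℂˣ) (k : K) :
    ((m.twist f).char : K → ℂ) k = (f k : ℂ) * (m.char : K → ℂ) k := by
  show (((f k : ℂ) • m.rho k)).trace = _
  rw [Matrix.trace_smul, smul_eq_mul]; rfl

variable [Fintype K]

theorem scalar_of_commute {Q : Matrix (Fin m.d) (Fin m.d) ℂ} (hQ : ∀ k, m.rho k * Q = Q * m.rho k) :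
    ∃ c : ℂ, Q = c • 1 :=
  Chars17.scalar_of_commute m.rho m.irr hQ

/-- The function with transform `T` at `m`. -/
noncomputable def coef (T : Matrix (Fin m.d) (Fin m.d) ℂ) (k : K) : ℂ :=
  (m.d : ℂ) / (Nat.card K : ℂ) * (m.rho k⁻¹ * T).trace

theorem coef_add (T T' : Matrix (Fin m.d) (Fin m.d) ℂ) :
    m.coef (T + T') = m.coef T + m.coef T' := by
  funext k; simp [coef, Matrix.mul_add, mul_add]

theorem coef_sub (T T' : Matrix (Fin m.d) (Fin m.d) ℂ) :
    m.coef (T - T') = m.coef T - m.coef T' := by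
  funext k; simp [coef, Matrix.mul_sub, mul_sub]

theorem coef_smul (a : ℂ) (T : Matrix (Fin m.d) (Fin m.d) ℂ) : m.coef (a • T) = a • m.coef T := by
  funext k; simp [coef]; ring

theorem coef_zero : m.coef 0 = 0 := by funext k; simp [coef]

theorem coef_sum {α : Type*} (s : Finset α) (T : α → Matrix (Fin m.d) (Fin m.d) ℂ) :
    m.coef (∑ i ∈ s, T i) = ∑ i ∈ s, m.coef (T i) := by
  funext k; simp [coef, Matrix.mul_sum, Matrix.trace_sum, Finset.mul_sum]

theorem coef_one (k : K) :
    m.coef 1 k = (m.d : ℂ) / (Nat.card K : ℂ) * (m.char : K → ℂ) k⁻¹ := by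
  simp [coef, char_apply]

/-- Schur: the average of `ρ k Y ρ k⁻¹`. -/
theorem sum_conj_eq (Y : Matrix (Fin m.d) (Fin m.d) ℂ) :
    ∑ k : K, m.rho k * Y * m.rho k⁻¹ = ((Nat.card K : ℂ) * Y.trace / (m.d : ℂ)) • 1 := by
  obtain ⟨c, hc⟩ := m.scalar_of_commute (Q := ∑ k : K, m.rho k * Y * m.rho k⁻¹) fun a => by
    rw [Finset.mul_sum, Finset.sum_mul]
    refine Fintype.sum_equiv (Equiv.mulLeft a) _ _ fun k => ?_
    simp only [Equiv.coe_mulLeft, _root_.mul_inv_rev, map_mul, Matrix.mul_assoc]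
    rw [← map_mul m.rho a⁻¹ a, inv_mul_cancel, map_one, Matrix.mul_one]
  rw [hc]
  congr 1
  have h := congrArg Matrix.trace hc
  rw [Matrix.trace_sum, Matrix.trace_smul, Matrix.trace_one, Fintype.card_fin] at h
  simp only [Matrix.trace_mul_comm (m.rho _ * Y), ← Matrix.mul_assoc, ← map_mul,
    inv_mul_cancel, map_one, Matrix.one_mul, Finset.sum_const, Finset.card_univ,
    nsmul_eq_mul, smul_eq_mul] at h
  rw [eq_div_iff m.d_ne_zero, ← h, Nat.card_eq_fintype_card]

/-- Fourier inversion at a single irreducible representation. -/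
theorem fourier (T : Matrix (Fin m.d) (Fin m.d) ℂ) : sigmaFun m.rho (m.coef T) = T := by
  ext i j
  have key : ∀ a b, ∑ k : K, m.rho k⁻¹ b a * m.rho k i j =
      (Nat.card K : ℂ) / (m.d : ℂ) * if i = a ∧ j = b then 1 else 0 := by
    intro a b
    have h := congrArg (fun M : Matrix (Fin m.d) (Fin m.d) ℂ => M i a)
      (m.sum_conj_eq (Matrix.single j b (1 : ℂ)))
    simp only [Matrix.sum_apply, Matrix.mul_apply, Matrix.single_apply, Finset.sum_mul, ite_and,
      mul_ite, ite_mul, mul_one, mul_zero, zero_mul, Finset.sum_ite_eq, Finset.mem_univ, if_true,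
      Matrix.smul_apply, Matrix.one_apply, smul_eq_mul, Matrix.trace, Matrix.diag_apply] at h
    rw [Finset.sum_congr rfl fun k _ => mul_comm (m.rho k⁻¹ b a) (m.rho k i j)]
    rw [h]
    by_cases h1 : i = a <;> by_cases h2 : j = b <;> simp [h1, h2, eq_comm]
  have hN : (Nat.card K : ℂ) ≠ 0 := Nat.cast_ne_zero.2 Nat.card_pos.ne'
  have e : sigmaFun m.rho (m.coef T) i j =
      (m.d : ℂ) / (Nat.card K : ℂ) * ∑ b, ∑ a, T a b * ∑ k : K, m.rho k⁻¹ b a * m.rho k i j := by
    simp only [sigmaFun, coef, Matrix.sum_apply, Matrix.smul_apply, smul_eq_mul, Matrix.trace,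
      Matrix.diag_apply, Matrix.mul_apply, Finset.mul_sum, Finset.sum_mul]
    rw [Finset.sum_comm]
    refine Finset.sum_congr rfl fun b _ => ?_
    rw [Finset.sum_comm]
    refine Finset.sum_congr rfl fun a _ => Finset.sum_congr rfl fun k _ => ?_
    ring
  rw [e]
  simp only [key]
  rw [Finset.sum_eq_single j (fun b _ hb => Finset.sum_eq_zero fun a _ => by simp [Ne.symm hb])
    (by simp), Finset.sum_eq_single i (fun a _ ha => by simp [Ne.symm ha]) (by simp)]
  simp only [and_self, if_true, mul_one]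
  field_simp [m.d_ne_zero]

variable {ι : Type*} [Fintype ι] [DecidableEq ι] (σ : K →* Matrix ι ι ℂ)

/-- The transform is multiplicative on the component of `m`. -/
theorem sigma_coef_mul (T T' : Matrix (Fin m.d) (Fin m.d) ℂ) :
    sigmaFun σ (m.coef T) * sigmaFun σ (m.coef T') = sigmaFun σ (m.coef (T * T')) := by
  have h : ∀ x : K, ∑ k : K, m.coef T k * m.coef T' (k⁻¹ * x) = m.coef (T * T') x := by
    intro x
    have e : ∀ k, m.coef T k * m.coef T' (k⁻¹ * x) =
        (m.d : ℂ) / (Nat.card K : ℂ) * (m.rho x⁻¹ * (m.coef T k • m.rho k) * T').trace := by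
      intro k
      simp only [coef, _root_.mul_inv_rev, inv_inv, map_mul, Matrix.mul_smul, Matrix.smul_mul,
        Matrix.trace_smul, smul_eq_mul, Matrix.mul_assoc]
      ring
    rw [Finset.sum_congr rfl fun k _ => e k, ← Finset.mul_sum, ← Matrix.trace_sum,
      ← Matrix.sum_mul, ← Matrix.mul_sum, ← sigmaFun, m.fourier, Matrix.mul_assoc]
    rfl
  rw [sigmaFun, sigmaFun, sigmaFun, Finset.sum_mul]
  simp only [Finset.mul_sum, Matrix.smul_mul, Matrix.mul_smul, smul_smul, ← map_mul]
  rw [show ∑ k : K, m.coef (T * T') k • σ k =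
    ∑ x : K, ∑ k : K, (m.coef T k * m.coef T' (k⁻¹ * x)) • σ x from
    Finset.sum_congr rfl fun x _ => by rw [← h x, Finset.sum_smul]]
  rw [Finset.sum_comm (γ := K) (f := fun x k => (m.coef T k * m.coef T' (k⁻¹ * x)) • σ x)]
  refine Finset.sum_congr rfl fun k _ => ?_
  refine Fintype.sum_equiv (Equiv.mulLeft k) _ _ fun x => ?_
  simp [mul_comm]

theorem trace_sigma_coef_one :
    (sigmaFun σ (m.coef 1)).trace =
      (m.d : ℂ) * classInner (fun k => (σ k).trace) (m.char : K → ℂ) := by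
  rw [trace_sigmaFun, classInner, Finset.mul_sum, Finset.mul_sum]
  refine Finset.sum_congr rfl fun k _ => ?_
  rw [coef_one, irr_apply_inv]
  ring

/-- Components of non-constituents act as zero. -/
theorem sigma_coef_eq_zero (h : classInner (fun k => (σ k).trace) (m.char : K → ℂ) = 0)
    (T : Matrix (Fin m.d) (Fin m.d) ℂ) : sigmaFun σ (m.coef T) = 0 := by
  set Z := sigmaFun σ (m.coef 1) with hZ
  have hidem : Z * Z = Z := by rw [hZ, sigma_coef_mul, Matrix.one_mul]
  have htr : Z.trace = 0 := by rw [hZ, trace_sigma_coef_one, h, mul_zero]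
  have hZ0 : Z = 0 := by
    have h2 := idempotent_eq_zero_of_trace (V := ι → ℂ) (E := Matrix.toLinAlgEquiv' Z)
      (by rw [← map_mul, hidem]) ((Matrix.trace_toLin'_eq Z).trans htr)
    exact (map_eq_zero_iff _ (Matrix.toLinAlgEquiv' : Matrix ι ι ℂ ≃ₐ[ℂ] _).injective).1 h2
  rw [← Matrix.mul_one T, ← sigma_coef_mul, ← hZ, hZ0, Matrix.mul_zero]

end IrrModel

/-- The components of all irreducible characters sum to the identity. -/
theorem sum_sigma_coef_one {K : Type u} [Group K] [Fintype K] {ι : Type*} [Fintype ι]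
    [DecidableEq ι] [Fintype (IrrCharacter K)] (σ : K →* Matrix ι ι ℂ) (F : IrrCharacter K → IrrModel K)
    (hF : ∀ θ, (F θ).char = θ) :
    ∑ θ : IrrCharacter K, sigmaFun σ ((F θ).coef 1) = 1 := by
  classical
  rw [← sigmaFun_sum, sigmaFun, Finset.sum_eq_single (1 : K) ?_ (by simp)]
  · rw [map_one]
    refine (congrArg (· • (1 : Matrix ι ι ℂ)) ?_).trans (one_smul ℂ _)
    rw [Finset.sum_apply]
    simp only [IrrModel.coef_one, ← IrrModel.char_one, hF, inv_one]
    have h := sum_degree_mul_irr (1 : K)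
    rw [if_pos rfl] at h
    rw [Finset.sum_congr rfl fun θ _ => div_mul_eq_mul_div _ _ _, ← Finset.sum_div]
    convert div_self (Nat.cast_ne_zero.2 (Nat.card_pos (α := K)).ne' : (Nat.card K : ℂ) ≠ 0) using 2
    convert h
  · intro k _ hk
    refine smul_eq_zero.2 (Or.inl ?_)
    rw [Finset.sum_apply]
    simp only [IrrModel.coef_one, ← IrrModel.char_one, hF]
    have h := sum_degree_mul_irr k⁻¹
    rw [if_neg (inv_ne_one.2 hk)] at h
    rw [Finset.sum_congr rfl fun θ _ => div_mul_eq_mul_div _ _ _, ← Finset.sum_div]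
    rw [div_eq_zero_iff]
    left
    convert h

/-! ## Intertwiners -/

/-- An intertwiner `ρ' ∘ α ≅ ρ`. -/
structure Intw {K : Type u} [Group K] (α : K ≃* K) (m m' : IrrModel K) where
  /-- the map -/
  P : Matrix (Fin m'.d) (Fin m.d) ℂ
  /-- its inverse -/
  Q : Matrix (Fin m.d) (Fin m'.d) ℂ
  PQ : P * Q = 1
  QP : Q * P = 1
  comm : ∀ k, m'.rho (α k) * P = P * m.rho k

namespace Intw

variable {K : Type u} [Group K] {α β : K ≃* K} {m m' m'' : IrrModel K}

/-- Conjugation by an intertwiner. -/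
def cj (i : Intw α m m') (T : Matrix (Fin m.d) (Fin m.d) ℂ) : Matrix (Fin m'.d) (Fin m'.d) ℂ :=
  i.P * T * i.Q

theorem cj_mul (i : Intw α m m') (T T' : Matrix (Fin m.d) (Fin m.d) ℂ) :
    i.cj (T * T') = i.cj T * i.cj T' := by
  simp only [cj, Matrix.mul_assoc]
  congr 2
  rw [← Matrix.mul_assoc i.Q i.P, i.QP, Matrix.one_mul]

theorem cj_one (i : Intw α m m') : i.cj 1 = 1 := by rw [cj, Matrix.mul_one, i.PQ]

theorem cj_smul (i : Intw α m m') (c : ℂ) (T : Matrix (Fin m.d) (Fin m.d) ℂ) :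
    i.cj (c • T) = c • i.cj T := by simp [cj]

theorem cj_sum (i : Intw α m m') {γ : Type*} (s : Finset γ)
    (T : γ → Matrix (Fin m.d) (Fin m.d) ℂ) : i.cj (∑ x ∈ s, T x) = ∑ x ∈ s, i.cj (T x) := by
  simp [cj, Matrix.mul_sum, Matrix.sum_mul]

theorem cj_pow (i : Intw α m m') (T : Matrix (Fin m.d) (Fin m.d) ℂ) (n : ℕ) :
    i.cj (T ^ n) = i.cj T ^ n := by
  induction n with
  | zero => rw [pow_zero, pow_zero, cj_one]
  | succ n ih => rw [pow_succ, pow_succ, cj_mul, ih]

theorem cj_trace (i : Intw α m m') (T : Matrix (Fin m.d) (Fin m.d) ℂ) :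
    (i.cj T).trace = T.trace := by
  rw [cj, Matrix.trace_mul_comm, ← Matrix.mul_assoc, i.QP, Matrix.one_mul]

theorem cj_rho (i : Intw α m m') (k : K) : i.cj (m.rho k) = m'.rho (α k) := by
  rw [cj, ← i.comm, Matrix.mul_assoc, i.PQ, Matrix.mul_one]

theorem cj_isUnit (i : Intw α m m') {T : Matrix (Fin m.d) (Fin m.d) ℂ} (h : IsUnit T) :
    IsUnit (i.cj T) := by
  obtain ⟨u, rfl⟩ := h
  exact isUnit_iff_exists.2 ⟨i.cj ↑u⁻¹, by rw [← cj_mul, Units.mul_inv, cj_one],
    by rw [← cj_mul, Units.inv_mul, cj_one]⟩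

/-- The reflexive intertwiner. -/
def refl (m : IrrModel K) : Intw (MulEquiv.refl K) m m :=
  ⟨1, 1, Matrix.one_mul 1, Matrix.one_mul 1, fun k => by simp⟩

/-- The inverse intertwiner. -/
def symm (i : Intw α m m') : Intw α.symm m' m where
  P := i.Q
  Q := i.P
  PQ := i.QP
  QP := i.PQ
  comm k := by
    have h := congrArg (fun X => i.Q * X * i.Q) (i.comm (α.symm k))
    simp only [α.apply_symm_apply, ← Matrix.mul_assoc, i.QP, Matrix.one_mul] at h
    rw [Matrix.mul_assoc (i.Q * m'.rho k), i.PQ, Matrix.mul_one] at h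
    exact h.symm

/-- Composition of intertwiners. -/
def trans (i : Intw α m m') (j : Intw β m' m'') : Intw (α.trans β) m m'' where
  P := j.P * i.P
  Q := i.Q * j.Q
  PQ := by rw [Matrix.mul_assoc, ← Matrix.mul_assoc i.P, i.PQ, Matrix.one_mul, j.PQ]
  QP := by rw [Matrix.mul_assoc, ← Matrix.mul_assoc j.Q, j.QP, Matrix.one_mul, i.QP]
  comm k := by
    show m''.rho (β (α k)) * (j.P * i.P) = j.P * i.P * m.rho k
    rw [← Matrix.mul_assoc, j.comm, Matrix.mul_assoc, i.comm, Matrix.mul_assoc]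

theorem trans_cj (i : Intw α m m') (j : Intw β m' m'') (T : Matrix (Fin m.d) (Fin m.d) ℂ) :
    (i.trans j).cj T = j.cj (i.cj T) := by
  simp [cj, trans, Matrix.mul_assoc]

variable [Fintype K]

/-- Conjugation does not depend on the intertwiner. -/
theorem cj_unique (i i' : Intw α m m') (T : Matrix (Fin m.d) (Fin m.d) ℂ) : i.cj T = i'.cj T := by
  obtain ⟨c, hc⟩ := m.scalar_of_commute (Q := i'.Q * i.P) fun k => by
    have h := i'.symm.comm (α k)
    rw [α.symm_apply_apply] at h
    rw [← Matrix.mul_assoc, show m.rho k * i'.Q = i'.Q * m'.rho (α k) from h, Matrix.mul_assoc,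
      i.comm, Matrix.mul_assoc]
  have hP : i.P = c • i'.P := by
    have := congrArg (fun X => i'.P * X) hc
    simpa [← Matrix.mul_assoc, i'.PQ] using this
  have hc0 : c ≠ 0 := by
    intro h0
    have h := i.QP
    rw [hP, h0, zero_smul, Matrix.mul_zero] at h
    exact one_ne_zero h.symm
  have hQ : i.Q = c⁻¹ • i'.Q := by
    have := congrArg (fun X => X * i.Q) hc
    simp only [Matrix.mul_assoc, i.PQ, Matrix.mul_one, Matrix.smul_mul, Matrix.one_mul] at this
    rw [this, inv_smul_smul₀ hc0]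
  rw [cj, cj, hP, hQ, Matrix.smul_mul, Matrix.smul_mul, Matrix.mul_smul, smul_smul,
    mul_inv_cancel₀ hc0, one_smul]

theorem coef_cj (i : Intw α m m') (T : Matrix (Fin m.d) (Fin m.d) ℂ) (k : K) :
    m'.coef (i.cj T) (α k) = m.coef T k := by
  have hd : (m'.d : ℂ) = (m.d : ℂ) := by
    have h := i.cj_trace 1
    rwa [cj_one, Matrix.trace_one, Matrix.trace_one, Fintype.card_fin, Fintype.card_fin] at h
  rw [IrrModel.coef, IrrModel.coef, hd, ← map_inv α, ← i.cj_rho, ← cj_mul, cj_trace]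

end Intw

/-- Models with matching characters are intertwined. -/
theorem exists_intw {K : Type u} [Group K] [Finite K] (α : K ≃* K) (m m' : IrrModel K)
    (h : ∀ k, (m'.char : K → ℂ) (α k) = (m.char : K → ℂ) k) : Nonempty (Intw α m m') := by
  classical
  let mk : ∀ {d : ℕ}, (K →* Matrix (Fin d) (Fin d) ℂ) → Representation ℂ K (Fin d → ℂ) :=
    fun R => (Matrix.toLinAlgEquiv' : Matrix _ _ ℂ ≃ₐ[ℂ] _).toAlgHom.toMonoidHom.comp R
  have hmk : ∀ {d : ℕ} (R : K →* Matrix (Fin d) (Fin d) ℂ) k,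
      (mk R).character k = (R k).trace := fun R k => Matrix.trace_toLin'_eq (R k)
  have hirr : (mk m.rho).IsIrreducible := by
    obtain ⟨n, τ, hτ, hc⟩ := m.irr
    haveI := hτ
    obtain ⟨φ⟩ := CharExtension.nonempty_equiv_of_char_eq τ (mk m.rho)
      (funext fun k => (hmk m.rho k).trans (congrFun hc k).symm)
    exact isIrreducible_of_equiv φ hτ
  haveI := hirr
  obtain ⟨φ⟩ := CharExtension.nonempty_equiv_of_char_eq (mk m.rho)
    (mk (m'.rho.comp α.toMonoidHom)) (funext fun k => by rw [hmk, hmk]; exact h k)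
  let e : (Fin m.d → ℂ) ≃ₗ[ℂ] (Fin m'.d → ℂ) := φ.toLinearEquiv
  refine ⟨⟨LinearMap.toMatrix' e.toLinearMap, LinearMap.toMatrix' e.symm.toLinearMap, ?_, ?_, ?_⟩⟩
  · rw [← LinearMap.toMatrix'_comp, e.comp_symm, LinearMap.toMatrix'_id]
  · rw [← LinearMap.toMatrix'_comp, e.symm_comp, LinearMap.toMatrix'_id]
  · intro k
    apply Matrix.toLin'.injective
    rw [Matrix.toLin'_mul, Matrix.toLin'_mul, Matrix.toLin'_toMatrix']
    exact (φ.toIntertwiningMap.isIntertwining' k).symm

/-! ## Characters from commuting idempotents -/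

/-- `g ↦ tr(σ g Q)` is a character when `Q` is an idempotent commuting with `σ`. -/
theorem isCharacter_trace_mul_idem {G : Type*} [Group G] {ι : Type*} [Fintype ι] [DecidableEq ι]
    (σ : G →* Matrix ι ι ℂ) {Q : Matrix ι ι ℂ} (hQ : Q * Q = Q)
    (hc : ∀ g, σ g * Q = Q * σ g) : IsCharacter G (fun g => (σ g * Q).trace) := by
  let L : Module.End ℂ (ι → ℂ) := Matrix.toLinAlgEquiv' Q
  let S : G →* Module.End ℂ (ι → ℂ) :=
    (Matrix.toLinAlgEquiv' : Matrix ι ι ℂ ≃ₐ[ℂ] _).toAlgHom.toMonoidHom.comp σ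
  have hinv : ∀ g, ∀ x ∈ LinearMap.range L, S g x ∈ LinearMap.range L := by
    rintro g _ ⟨y, rfl⟩
    refine ⟨S g y, ?_⟩
    show (L * S g) y = (S g * L) y
    simp only [L, S, MonoidHom.coe_comp, Function.comp_apply]
    exact congrArg (fun E : Module.End ℂ (ι → ℂ) => E y)
      ((map_mul Matrix.toLinAlgEquiv' Q (σ g)).symm.trans
        ((congrArg _ (hc g).symm).trans (map_mul _ _ _)))
  let τ : Representation ℂ G (LinearMap.range L) :=
    { toFun := fun g => (S g).restrict (hinv g)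
      map_one' := LinearMap.ext fun x => Subtype.ext (by simp [S])
      map_mul' := fun a b => LinearMap.ext fun x => Subtype.ext (by simp [S, LinearMap.restrict_apply]) }
  convert isCharacter_character τ using 1
  funext g
  let p : (ι → ℂ) →ₗ[ℂ] LinearMap.range L := L.rangeRestrict
  let j : LinearMap.range L →ₗ[ℂ] (ι → ℂ) := (LinearMap.range L).subtype
  have e1 : (S g).restrict (hinv g) = p ∘ₗ (S g ∘ₗ j) := by
    refine LinearMap.ext fun x => Subtype.ext ?_
    show S g x = L (S g x)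
    obtain ⟨y, hy⟩ := hinv g x x.2
    rw [← hy]
    show L y = (L * L) y
    rw [show L * L = L from (map_mul _ Q Q).symm.trans (congrArg _ hQ)]
  have e2 : (S g ∘ₗ j) ∘ₗ p = S g * L := LinearMap.ext fun x => rfl
  show (σ g * Q).trace = LinearMap.trace ℂ _ ((S g).restrict (hinv g))
  rw [e1, LinearMap.trace_comp_comm', e2]
  show _ = LinearMap.trace ℂ _ (Matrix.toLinAlgEquiv' (σ g) * Matrix.toLinAlgEquiv' Q)
  rw [← map_mul]
  exact (Matrix.trace_toLin'_eq _).symm

end CfsgLib.IsaacsOdd
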