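import Cfsg.Agent.Lib.IsaacsOdd.Setting

/-!
# The symmetrised Heisenberg group of an invariant character

For an invariant irreducible character `θ` with model `ρ`, the linear characters `a` of the
section with `θ a = θ` each have a one-dimensional space `A a` of matrices `T` with
`ρ k T = a k • T ρ k`. The twisted product `z(a,b)⁻¹ T T'` makes them into a commutative group,
which has a unique section `u` of exponent dividing `|K|` and of trivial norm under the operators.
-/

set_option autoImplicit false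
set_option linter.unusedSectionVars false
set_option linter.style.haveILetI false

open Cfsg CfsgLib.Characters Matrix

namespace CfsgLib.IsaacsOdd

universe u v

namespace Setting

variable {K : Type u} [Group K] [Fintype K] {S : Type v} [Group S] [Fintype S] (D : Setting K S)

/-- A model of an invariant irreducible character. -/
structure Mdl where
  /-- the model -/
  m : IrrModel K
  inv : ∀ s k, (m.char : K → ℂ) (D.act s k) = (m.char : K → ℂ) k

variable {D}

/-- The linear characters of the section stabilising the character. -/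
def Mdl.M (X : D.Mdl) : Subgroup (K →* ℂˣ) where
  carrier := {f | f ∈ chr D.N ∧ ∀ k, (f k : ℂ) * (X.m.char : K → ℂ) k = (X.m.char : K → ℂ) k}
  one_mem' := ⟨(chr D.N).one_mem, fun k => by simp⟩
  mul_mem' := fun {a b} ha hb => ⟨(chr D.N).mul_mem ha.1 hb.1, fun k => by
    rw [MonoidHom.mul_apply, Units.val_mul, mul_assoc, hb.2, ha.2]⟩
  inv_mem' := fun {a} ha => ⟨(chr D.N).inv_mem ha.1, fun k => by
    conv_lhs => rw [← ha.2 k]
    simp⟩

namespace Mdl

variable (X : D.Mdl)

theorem mem_M {f : K →* ℂˣ} :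
    f ∈ X.M ↔ f ∈ chr D.N ∧ ∀ k, (f k : ℂ) * (X.m.char : K → ℂ) k = (X.m.char : K → ℂ) k :=
  Iff.rfl

noncomputable instance instFintypeM : Fintype X.M := Fintype.ofFinite _

/-- The eigenspace of `a`. -/
def InA (X : D.Mdl) (a : K →* ℂˣ) (T : Matrix (Fin X.m.d) (Fin X.m.d) ℂ) : Prop :=
  ∀ k, X.m.rho k * T = (a k : ℂ) • (T * X.m.rho k)

theorem inA_one : X.InA 1 1 := fun k => by simp

theorem inA_mul {a b : K →* ℂˣ} {T T' : Matrix (Fin X.m.d) (Fin X.m.d) ℂ} (h : X.InA a T)
    (h' : X.InA b T') : X.InA (a * b) (T * T') := fun k => by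
  rw [← Matrix.mul_assoc, h k, Matrix.smul_mul, Matrix.mul_assoc, h' k, Matrix.mul_smul, smul_smul,
    MonoidHom.mul_apply, Units.val_mul, Matrix.mul_assoc]

theorem inA_smul {a : K →* ℂˣ} {T : Matrix (Fin X.m.d) (Fin X.m.d) ℂ} (h : X.InA a T) (c : ℂ) :
    X.InA a (c • T) := fun k => by
  rw [Matrix.mul_smul, h k, Matrix.smul_mul, smul_smul, smul_smul, mul_comm]

theorem exists_unit_inA (a : X.M) :
    ∃ v : (Matrix (Fin X.m.d) (Fin X.m.d) ℂ)ˣ, X.InA a.1 v.1 := by
  obtain ⟨i⟩ := exists_intw (MulEquiv.refl K) X.m (X.m.twist a.1⁻¹) fun k => by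
    show ((X.m.twist a.1⁻¹).char : K → ℂ) k = _
    rw [IrrModel.twist_char]
    conv_lhs => rw [← a.2.2 k]
    simp
  let P : Matrix (Fin X.m.d) (Fin X.m.d) ℂ := i.P
  let Q : Matrix (Fin X.m.d) (Fin X.m.d) ℂ := i.Q
  refine ⟨⟨P, Q, i.PQ, i.QP⟩, fun k => ?_⟩
  have h : ((a.1⁻¹ k : ℂˣ) : ℂ) • X.m.rho k * P = P * X.m.rho k := i.comm k
  rw [Matrix.smul_mul, MonoidHom.inv_apply, Units.val_inv_eq_inv_val] at h
  show X.m.rho k * P = (a.1 k : ℂ) • (P * X.m.rho k)
  rw [← h, smul_smul, mul_inv_cancel₀ (Units.ne_zero _), one_smul]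

/-- A chosen invertible element of `A a`. -/
noncomputable def v (a : X.M) : (Matrix (Fin X.m.d) (Fin X.m.d) ℂ)ˣ := (X.exists_unit_inA a).choose

theorem inA_v (a : X.M) : X.InA a.1 (X.v a).1 := (X.exists_unit_inA a).choose_spec

/-- `A a` is one-dimensional. -/
theorem eq_smul_v (a : X.M) {T : Matrix (Fin X.m.d) (Fin X.m.d) ℂ} (h : X.InA a.1 T) :
    ∃ c : ℂ, T = c • (X.v a).1 := by
  obtain ⟨c, hc⟩ := X.m.scalar_of_commute (Q := (X.v a)⁻¹.1 * T) fun k => by
    have hv := congrArg (fun Y => (X.v a)⁻¹.1 * Y * (X.v a)⁻¹.1) (X.inA_v a k)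
    simp only [Matrix.mul_smul, Matrix.smul_mul, ← Matrix.mul_assoc, Units.inv_mul,
      Matrix.one_mul] at hv
    rw [Matrix.mul_assoc ((X.v a)⁻¹.1 * X.m.rho k), Units.mul_inv, Matrix.mul_one] at hv
    refine smul_right_injective _ (Units.ne_zero (a.1 k)) ?_
    show (a.1 k : ℂ) • (X.m.rho k * ((X.v a)⁻¹.1 * T)) =
      (a.1 k : ℂ) • ((X.v a)⁻¹.1 * T * X.m.rho k)
    rw [← Matrix.mul_assoc, ← Matrix.smul_mul, ← hv, Matrix.mul_assoc, h k, Matrix.mul_smul,
      ← Matrix.mul_assoc]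
  refine ⟨c, ?_⟩
  rw [← Matrix.one_mul T, ← Units.mul_inv (X.v a), Matrix.mul_assoc, hc, Matrix.mul_smul,
    Matrix.mul_one]

theorem eq_of_smul_unit {x y : ℂ} {T : Matrix (Fin X.m.d) (Fin X.m.d) ℂ} (hT : IsUnit T)
    (h : x • T = y • T) : x = y := by
  by_contra hne
  have h2 : (x - y) • T = 0 := by rw [sub_smul, h, sub_self]
  exact hT.ne_zero ((smul_eq_zero.1 h2).resolve_left (sub_ne_zero.2 hne))

theorem exists_omega (a b : X.M) : ∃ w : ℂ, ∀ T T', X.InA a.1 T → X.InA b.1 T' →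
    T * T' = w • (T' * T) := by
  have hab : X.InA ((a * b : X.M)).1 ((X.v a).1 * (X.v b).1) := X.inA_mul (X.inA_v a) (X.inA_v b)
  have hba : X.InA ((a * b : X.M)).1 ((X.v b).1 * (X.v a).1) := by
    rw [mul_comm a b]
    exact X.inA_mul (X.inA_v b) (X.inA_v a)
  obtain ⟨c, hc⟩ := X.eq_smul_v (a * b) hab
  obtain ⟨e, he⟩ := X.eq_smul_v (a * b) hba
  have he0 : e ≠ 0 := by
    intro h
    rw [h, zero_smul] at he
    exact (Units.isUnit (X.v b * X.v a)).ne_zero he
  refine ⟨c / e, fun T T' hT hT' => ?_⟩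
  obtain ⟨p, rfl⟩ := X.eq_smul_v a hT
  obtain ⟨q, rfl⟩ := X.eq_smul_v b hT'
  simp only [Matrix.smul_mul, Matrix.mul_smul, smul_smul, hc, he]
  congr 1
  field_simp

/-- The commutator pairing. -/
noncomputable def omega (a b : X.M) : ℂ := (X.exists_omega a b).choose

theorem omega_spec {a b : X.M} {T T' : Matrix (Fin X.m.d) (Fin X.m.d) ℂ} (h : X.InA a.1 T)
    (h' : X.InA b.1 T') : T * T' = X.omega a b • (T' * T) :=
  (X.exists_omega a b).choose_spec T T' h h'

theorem omega_eq {a b : X.M} {w : ℂ} {T T' : Matrix (Fin X.m.d) (Fin X.m.d) ℂ} (h : X.InA a.1 T)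
    (h' : X.InA b.1 T') (hT : IsUnit T) (hT' : IsUnit T') (he : T * T' = w • (T' * T)) :
    X.omega a b = w :=
  X.eq_of_smul_unit (hT'.mul hT) ((X.omega_spec h h').symm.trans he)

theorem omega_self (a : X.M) : X.omega a a = 1 :=
  X.omega_eq (X.inA_v a) (X.inA_v a) (Units.isUnit _) (Units.isUnit _) (one_smul ℂ _).symm

theorem omega_mul_left (a b c : X.M) : X.omega (a * b) c = X.omega a c * X.omega b c := by
  refine X.omega_eq (X.inA_mul (X.inA_v a) (X.inA_v b)) (X.inA_v c)
    ((Units.isUnit _).mul (Units.isUnit _)) (Units.isUnit _) ?_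
  rw [Matrix.mul_assoc, X.omega_spec (X.inA_v b) (X.inA_v c), Matrix.mul_smul, ← Matrix.mul_assoc,
    X.omega_spec (X.inA_v a) (X.inA_v c), Matrix.smul_mul, smul_smul, Matrix.mul_assoc,
    mul_comm (X.omega b c)]

theorem omega_ne_zero (a b : X.M) : X.omega a b ≠ 0 := by
  intro h
  have h2 := X.omega_spec (X.inA_v a) (X.inA_v b)
  rw [h, zero_smul] at h2
  exact (Units.isUnit (X.v a * X.v b)).ne_zero h2

theorem omega_swap (a b : X.M) : X.omega b a = (X.omega a b)⁻¹ := by
  refine X.omega_eq (X.inA_v b) (X.inA_v a) (Units.isUnit _) (Units.isUnit _) ?_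
  rw [X.omega_spec (X.inA_v a) (X.inA_v b), smul_smul, inv_mul_cancel₀ (X.omega_ne_zero a b),
    one_smul]

theorem omega_one (b : X.M) : X.omega 1 b = 1 := by
  have h := X.omega_mul_left 1 1 b
  rw [mul_one] at h
  exact (mul_right_eq_self₀.1 h.symm).resolve_right (X.omega_ne_zero 1 b)

theorem pow_card_M (a : X.M) : a ^ Nat.card K = 1 := Subtype.ext (by rw [SubmonoidClass.coe_pow, pow_card_hom, OneMemClass.coe_one])

theorem omega_pow_card (a b : X.M) : X.omega a b ^ Nat.card K = 1 := by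
  have h : ∀ j : ℕ, X.omega (a ^ j) b = X.omega a b ^ j := fun j => by
    induction j with
    | zero => rw [pow_zero, pow_zero, omega_one]
    | succ j ih => rw [pow_succ, omega_mul_left, ih, pow_succ]
  rw [← h, X.pow_card_M, X.omega_one]

/-- The square root of the commutator pairing. -/
noncomputable def z (a b : X.M) : ℂ := X.omega a b ^ D.half

theorem z_mul_left (a b c : X.M) : X.z (a * b) c = X.z a c * X.z b c := by
  rw [z, omega_mul_left, mul_pow]; rfl

theorem z_swap (a b : X.M) : X.z b a = (X.z a b)⁻¹ := by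
  rw [z, omega_swap, inv_pow]; rfl

theorem z_mul_right (a b c : X.M) : X.z a (b * c) = X.z a b * X.z a c := by
  rw [X.z_swap (b * c) a, X.z_mul_left, mul_inv, ← X.z_swap b a, ← X.z_swap c a]

theorem z_self (a : X.M) : X.z a a = 1 := by rw [z, omega_self, one_pow]

theorem z_one_left (b : X.M) : X.z 1 b = 1 := by rw [z, omega_one, one_pow]

theorem z_one_right (b : X.M) : X.z b 1 = 1 := by rw [z_swap, z_one_left, inv_one]

theorem z_ne_zero (a b : X.M) : X.z a b ≠ 0 := pow_ne_zero _ (X.omega_ne_zero a b)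

theorem z_inv_left (a b : X.M) : X.z a⁻¹ b = (X.z a b)⁻¹ := by
  refine eq_inv_of_mul_eq_one_left ?_
  rw [← X.z_mul_left, inv_mul_cancel, X.z_one_left]

theorem z_sq (a b : X.M) : X.z a b ^ 2 = X.omega a b := by
  rw [z, ← pow_mul, mul_comm, D.two_half, pow_succ, X.omega_pow_card, one_mul]

/-! ## The twisted group -/

/-- An invertible element of some `A a`. -/
@[ext] structure El where
  /-- the eigencharacter -/
  a : X.M
  /-- the matrix -/
  T : Matrix (Fin X.m.d) (Fin X.m.d) ℂ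
  inA : X.InA a.1 T
  unit : IsUnit T

variable {X}

noncomputable instance : Mul X.El :=
  ⟨fun x y => ⟨x.a * y.a, (X.z x.a y.a)⁻¹ • (x.T * y.T), X.inA_smul (X.inA_mul x.inA y.inA) _,
    (x.unit.mul y.unit).smul (Units.mk0 _ (inv_ne_zero (X.z_ne_zero x.a y.a)))⟩⟩

theorem El.mul_a (x y : X.El) : (x * y).a = x.a * y.a := rfl

theorem El.mul_T (x y : X.El) : (x * y).T = (X.z x.a y.a)⁻¹ • (x.T * y.T) := rfl

noncomputable instance : One X.El := ⟨⟨1, 1, X.inA_one, isUnit_one⟩⟩

theorem El.one_a : (1 : X.El).a = 1 := rfl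

theorem El.one_T : (1 : X.El).T = 1 := rfl

theorem inA_inv {a : K →* ℂˣ} {T : Matrix (Fin X.m.d) (Fin X.m.d) ℂ} (h : X.InA a T)
    (hu : IsUnit T) : X.InA a⁻¹ (hu.unit⁻¹ : (Matrix (Fin X.m.d) (Fin X.m.d) ℂ)ˣ).1 := by
  intro k
  set w : Matrix (Fin X.m.d) (Fin X.m.d) ℂ := (hu.unit⁻¹).1
  have h2 := congrArg (fun Y => w * Y * w) (h k)
  simp only [Matrix.mul_smul, Matrix.smul_mul, ← Matrix.mul_assoc] at h2
  rw [show w * T = 1 from hu.val_inv_mul, Matrix.one_mul, Matrix.mul_assoc (w * X.m.rho k),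
    show T * w = 1 from hu.mul_val_inv, Matrix.mul_one] at h2
  rw [MonoidHom.inv_apply, Units.val_inv_eq_inv_val, h2, smul_smul,
    mul_comm, mul_inv_cancel₀ (Units.ne_zero _), one_smul]

noncomputable instance : Inv X.El :=
  ⟨fun x => ⟨x.a⁻¹, (x.unit.unit⁻¹).1, inA_inv x.inA x.unit, Units.isUnit _⟩⟩

noncomputable instance : CommGroup X.El :=
  { Group.ofLeftAxioms
      (fun x y w => El.ext (mul_assoc _ _ _) (by
        simp only [El.mul_T, El.mul_a, Matrix.smul_mul, Matrix.mul_smul, smul_smul,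
          Matrix.mul_assoc, z_mul_left, z_mul_right, mul_inv]
        congr 1
        ring))
      (fun x => El.ext (one_mul _) (by
        simp [El.mul_T, El.one_T, El.one_a, z_one_left]))
      (fun x => El.ext (inv_mul_cancel _) (by
        show (X.z x.a⁻¹ x.a)⁻¹ • ((x.unit.unit⁻¹).1 * x.T) = 1
        rw [x.unit.val_inv_mul, z_inv_left, z_self, inv_one, inv_one, one_smul])) with
    mul_comm := fun x y => El.ext (mul_comm _ _) (by
      rw [El.mul_T, El.mul_T, X.omega_spec x.inA y.inA, smul_smul, ← z_sq, X.z_swap x.a y.a,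
        inv_inv]
      congr 1
      field_simp [X.z_ne_zero x.a y.a]) }

/-- The projection to the eigencharacter. -/
noncomputable def El.fst : X.El →* X.M where
  toFun x := x.a
  map_one' := rfl
  map_mul' _ _ := rfl

variable (X) in
/-- The scalars. -/
noncomputable def iota : ℂˣ →* X.El where
  toFun c := ⟨1, (c : ℂ) • 1, X.inA_smul X.inA_one _, isUnit_one.smul c⟩
  map_one' := El.ext rfl (by simp [El.one_T])
  map_mul' c e := El.ext (mul_one 1).symm (by
    simp [El.mul_T, z_one_left, smul_smul, mul_comm])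

theorem iota_injective : Function.Injective (iota X) := by
  intro c e h
  exact Units.ext (X.eq_of_smul_unit isUnit_one (congrArg El.T h))

theorem exists_iota_of_fst {x : X.El} (h : x.a = 1) : ∃ c, x = iota X c := by
  obtain ⟨c, hc⟩ := X.m.scalar_of_commute (Q := x.T) fun k => by
    have h2 := x.inA k
    rw [h] at h2
    simpa using h2
  have hc0 : c ≠ 0 := by
    intro h0
    exact x.unit.ne_zero (by rw [hc, h0, zero_smul])
  exact ⟨Units.mk0 c hc0, El.ext h hc⟩

/-! ## Transport -/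

section Map

variable {X' : D.Mdl} {e : K ≃* K} (he : ∀ x, e x ∈ D.N ↔ x ∈ D.N)

theorem tw_mem_M (i : Intw e X.m X'.m) (he : ∀ x, e x ∈ D.N ↔ x ∈ D.N) {f : K →* ℂˣ}
    (hf : f ∈ X.M) : tw e f ∈ X'.M := by
  refine ⟨D.tw_mem_chr he hf.1, fun k => ?_⟩
  obtain ⟨k, rfl⟩ := e.surjective k
  rw [tw_apply, e.symm_apply_apply]
  have h : (X'.m.char : K → ℂ) (e k) = (X.m.char : K → ℂ) k := by
    rw [IrrModel.char_apply, IrrModel.char_apply, ← i.cj_rho, i.cj_trace]
  rw [h]
  exact hf.2 k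

/-- Transport of eigencharacters. -/
def mapM (i : Intw e X.m X'.m) (he : ∀ x, e x ∈ D.N ↔ x ∈ D.N) : X.M →* X'.M where
  toFun a := ⟨tw e a.1, tw_mem_M i he a.2⟩
  map_one' := Subtype.ext (tw_one e)
  map_mul' a b := Subtype.ext (tw_mul e a.1 b.1)

@[simp] theorem mapM_coe (i : Intw e X.m X'.m) (a : X.M) : (mapM i he a).1 = tw e a.1 := rfl

theorem mapM_bijective (i : Intw e X.m X'.m) : Function.Bijective (mapM i he) := by
  refine ⟨fun a b h => Subtype.ext (MonoidHom.ext fun k => ?_), fun b => ?_⟩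
  · have h2 := congrArg (fun c : X'.M => c.1 (e k)) h
    simpa using h2
  · refine ⟨⟨tw e.symm b.1, tw_mem_M i.symm (D.symm_mem he) b.2⟩, Subtype.ext ?_⟩
    refine MonoidHom.ext fun k => ?_
    simp

theorem inA_cj (i : Intw e X.m X'.m) {a : K →* ℂˣ} {T : Matrix (Fin X.m.d) (Fin X.m.d) ℂ}
    (h : X.InA a T) : X'.InA (tw e a) (i.cj T) := by
  intro k
  obtain ⟨k, rfl⟩ := e.surjective k
  rw [tw_apply, e.symm_apply_apply, ← i.cj_rho, ← i.cj_mul, h k, i.cj_smul, i.cj_mul]

theorem omega_map (i : Intw e X.m X'.m) (a b : X.M) :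
    X'.omega (mapM i he a) (mapM i he b) = X.omega a b := by
  refine X'.omega_eq (inA_cj i (X.inA_v a)) (inA_cj i (X.inA_v b)) (i.cj_isUnit (Units.isUnit _))
    (i.cj_isUnit (Units.isUnit _)) ?_
  rw [← i.cj_mul, X.omega_spec (X.inA_v a) (X.inA_v b), i.cj_smul, i.cj_mul]

theorem z_map (i : Intw e X.m X'.m) (a b : X.M) : X'.z (mapM i he a) (mapM i he b) = X.z a b := by
  rw [z, omega_map he i a b]; rfl

/-- Transport of the twisted group. -/
noncomputable def mapEl (i : Intw e X.m X'.m) : X.El →* X'.El where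
  toFun x := ⟨mapM i he x.a, i.cj x.T, inA_cj i x.inA, i.cj_isUnit x.unit⟩
  map_one' := El.ext (map_one (mapM i he)) i.cj_one
  map_mul' x y := El.ext (map_mul (mapM i he) _ _) (by
    show i.cj ((X.z x.a y.a)⁻¹ • (x.T * y.T)) =
      (X'.z (mapM i he x.a) (mapM i he y.a))⁻¹ • (i.cj x.T * i.cj y.T)
    rw [z_map, i.cj_smul, i.cj_mul])

theorem mapEl_T (i : Intw e X.m X'.m) (x : X.El) : (mapEl he i x).T = i.cj x.T := rfl

theorem mapEl_iota (i : Intw e X.m X'.m) (c : ℂˣ) : mapEl he i (iota X c) = iota X' c :=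
  El.ext (map_one (mapM i he)) (by
    show i.cj ((c : ℂ) • 1) = (c : ℂ) • 1
    rw [i.cj_smul, i.cj_one])

end Map

/-! ## The canonical section -/

variable (X)

theorem exists_intw_act (s : S) : Nonempty (Intw (D.act s : K ≃* K) X.m X.m) :=
  exists_intw _ _ _ fun k => X.inv s k

/-- A chosen intertwiner for an operator. -/
noncomputable def iw (s : S) : Intw (D.act s : K ≃* K) X.m X.m := (X.exists_intw_act s).some

/-- The operators on the twisted group. -/
noncomputable def sig (s : S) : X.El →* X.El := mapEl (fun x => D.act_mem s x) (X.iw s)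

theorem sig_a (s : S) (x : X.El) : (X.sig s x).a.1 = tw (D.act s) x.a.1 := rfl

theorem sig_mul (s t : S) (x : X.El) : X.sig s (X.sig t x) = X.sig (s * t) x := by
  refine El.ext (Subtype.ext ?_) ?_
  · show tw (D.act s) (tw (D.act t) x.a.1) = tw (D.act (s * t)) x.a.1
    rw [tw_tw, map_mul]; rfl
  · show (X.iw s).cj ((X.iw t).cj x.T) = (X.iw (s * t)).cj x.T
    rw [← Intw.trans_cj]
    let j : Intw (D.act (s * t) : K ≃* K) X.m X.m :=
      ⟨((X.iw t).trans (X.iw s)).P, ((X.iw t).trans (X.iw s)).Q, ((X.iw t).trans (X.iw s)).PQ,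
        ((X.iw t).trans (X.iw s)).QP, fun k => by
          rw [map_mul]; exact ((X.iw t).trans (X.iw s)).comm k⟩
    exact Intw.cj_unique j (X.iw (s * t)) x.T

/-- The norm. -/
noncomputable def norm : X.El →* X.El := ∏ s : S, X.sig s

theorem norm_apply (x : X.El) : X.norm x = ∏ s : S, X.sig s x := MonoidHom.finsetProd_apply _ _ _

theorem sig_norm (t : S) (x : X.El) : X.sig t (X.norm x) = X.norm x := by
  rw [norm_apply, map_prod]
  exact Fintype.prod_equiv (Equiv.mulLeft t) _ _ fun s => X.sig_mul t s x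

theorem norm_sig (t : S) (x : X.El) : X.norm (X.sig t x) = X.norm x := by
  rw [norm_apply, norm_apply]
  exact Fintype.prod_equiv (Equiv.mulRight t) _ _ fun s => X.sig_mul s t x

theorem norm_fst (x : X.El) : (X.norm x).a = 1 := by
  refine Subtype.ext (D.fix_chr (X.norm x).a.2.1 fun t => ?_)
  rw [← sig_a, sig_norm]

theorem norm_iota (c : ℂˣ) : X.norm (iota X c) = iota X (c ^ Nat.card S) := by
  rw [norm_apply, Finset.prod_congr rfl fun s _ => show X.sig s (iota X c) = iota X c from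
      mapEl_iota (fun x => D.act_mem s x) (X.iw s) c,
    Finset.prod_const, Finset.card_univ, map_pow, Nat.card_eq_fintype_card]

/-- The properties characterising the canonical section. -/
def Good (x : X.El) : Prop := x ^ Nat.card K = 1 ∧ X.norm x = 1

theorem good_mul {x y : X.El} (h : X.Good x) (h' : X.Good y) : X.Good (x * y) :=
  ⟨by rw [mul_pow, h.1, h'.1, mul_one], by rw [map_mul, h.2, h'.2, mul_one]⟩

theorem good_inv {x : X.El} (h : X.Good x) : X.Good x⁻¹ :=
  ⟨by rw [inv_pow, h.1, inv_one], by rw [map_inv, h.2, inv_one]⟩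

theorem good_unique {x y : X.El} (h : X.Good x) (h' : X.Good y) (he : x.a = y.a) : x = y := by
  obtain ⟨c, hc⟩ := exists_iota_of_fst (x := x * y⁻¹) (by
    show El.fst (x * y⁻¹) = 1
    rw [map_mul, map_inv]; exact mul_inv_eq_one.2 he)
  have hg := X.good_mul h (X.good_inv h')
  rw [hc] at hg
  obtain ⟨h1, h2⟩ := hg
  rw [← map_pow, ← map_one (iota X)] at h1
  rw [norm_iota, ← map_one (iota X)] at h2
  have hc1 := D.eq_one_of_pow (iota_injective h1) (iota_injective h2)
  rw [hc1, map_one] at hc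
  exact mul_inv_eq_one.1 hc

theorem exists_good (a : X.M) : ∃ x : X.El, x.a = a ∧ X.Good x := by
  let x0 : X.El := ⟨a, (X.v a).1, X.inA_v a, Units.isUnit _⟩
  obtain ⟨c, hc⟩ := exists_iota_of_fst (x := x0 ^ Nat.card K) (by
    show El.fst (x0 ^ Nat.card K) = 1
    rw [map_pow]; exact X.pow_card_M a)
  obtain ⟨e, he⟩ : ∃ e : ℂˣ, e ^ Nat.card K = c⁻¹ := by
    obtain ⟨r, hr⟩ := IsAlgClosed.exists_pow_nat_eq ((c⁻¹ : ℂˣ) : ℂ) (Nat.card_pos (α := K))
    have hr0 : r ≠ 0 := by
      intro h0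
      rw [h0, zero_pow Nat.card_pos.ne'] at hr
      exact Units.ne_zero _ hr.symm
    exact ⟨Units.mk0 r hr0, Units.ext (by simpa using hr)⟩
  set x1 := x0 * iota X e with hx1
  have h1 : x1 ^ Nat.card K = 1 := by rw [hx1, mul_pow, hc, ← map_pow, he, ← map_mul, mul_inv_cancel, map_one]
  have hx1a : x1.a = a := mul_one a
  obtain ⟨w, hw⟩ := exists_iota_of_fst (X.norm_fst x1)
  have hwn : w ^ Nat.card K = 1 := by
    refine iota_injective (X := X) ?_
    rw [map_pow, ← hw, ← map_pow, h1, map_one, map_one]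
  obtain ⟨j, q, hjq⟩ := D.exists_inv_card
  refine ⟨x1 * iota X (w ^ j)⁻¹, by rw [El.mul_a, hx1a]; exact mul_one a, ?_, ?_⟩
  · rw [mul_pow, h1, one_mul, ← map_pow, inv_pow, ← pow_mul, mul_comm, pow_mul, hwn, one_pow,
      inv_one, map_one]
  · rw [map_mul, hw, norm_iota, ← map_mul, inv_pow, ← pow_mul, mul_comm j, hjq, pow_add, pow_mul,
      hwn, one_pow, mul_one, pow_one, mul_inv_cancel, map_one]

/-- The canonical section, in the twisted group. -/
noncomputable def uEl (a : X.M) : X.El := (X.exists_good a).choose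

theorem uEl_a (a : X.M) : (X.uEl a).a = a := (X.exists_good a).choose_spec.1

theorem uEl_good (a : X.M) : X.Good (X.uEl a) := (X.exists_good a).choose_spec.2

theorem uEl_mul (a b : X.M) : X.uEl (a * b) = X.uEl a * X.uEl b :=
  X.good_unique (X.uEl_good _) (X.good_mul (X.uEl_good a) (X.uEl_good b))
    (by rw [El.mul_a, uEl_a, uEl_a, uEl_a])

theorem uEl_one : X.uEl 1 = 1 :=
  X.good_unique (X.uEl_good _) ⟨one_pow _, map_one _⟩ (by rw [uEl_a]; rfl)

/-- The canonical section. -/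
noncomputable def u (a : X.M) : Matrix (Fin X.m.d) (Fin X.m.d) ℂ := (X.uEl a).T

theorem inA_u (a : X.M) : X.InA a.1 (X.u a) := by
  have h := (X.uEl a).inA
  rwa [uEl_a] at h

theorem isUnit_u (a : X.M) : IsUnit (X.u a) := (X.uEl a).unit

theorem u_one : X.u 1 = 1 := by rw [u, uEl_one]; rfl

theorem u_mul_u (a b : X.M) : X.u a * X.u b = X.z a b • X.u (a * b) := by
  rw [u, u, u, uEl_mul, El.mul_T, uEl_a, uEl_a, smul_smul, mul_inv_cancel₀ (X.z_ne_zero a b),
    one_smul]

theorem eq_smul_u (a : X.M) {T : Matrix (Fin X.m.d) (Fin X.m.d) ℂ} (h : X.InA a.1 T) :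
    ∃ c : ℂ, T = c • X.u a := by
  obtain ⟨c, hc⟩ := X.eq_smul_v a h
  obtain ⟨e, he⟩ := X.eq_smul_v a (X.inA_u a)
  have he0 : e ≠ 0 := fun h0 => (X.isUnit_u a).ne_zero (by rw [he, h0, zero_smul])
  exact ⟨c / e, by rw [hc, he, smul_smul, div_mul_cancel₀ _ he0]⟩

/-- Transport of the canonical section. -/
theorem u_map {X' : D.Mdl} (α : D.Auto) (i : Intw α.e X.m X'.m) (a : X.M) :
    i.cj (X.u a) = X'.u (mapM i α.mem a) := by
  have hnat : ∀ (s : S) (x : X.El),
      X'.sig s (mapEl α.mem i x) = mapEl α.mem i (X.sig s x) := by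
    intro s x
    refine El.ext (Subtype.ext ?_) ?_
    · show tw (D.act s) (tw α.e x.a.1) = tw α.e (tw (D.act s) x.a.1)
      rw [tw_tw, tw_tw]
      congr 1
      exact MulEquiv.ext fun k => α.comm s k
    · show (X'.iw s).cj (i.cj x.T) = i.cj ((X.iw s).cj x.T)
      rw [← Intw.trans_cj, ← Intw.trans_cj]
      let j : Intw (α.e.trans (D.act s : K ≃* K)) X.m X'.m :=
        ⟨((X.iw s).trans i).P, ((X.iw s).trans i).Q, ((X.iw s).trans i).PQ, ((X.iw s).trans i).QP,
          fun k => by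
            rw [MulEquiv.trans_apply]
            rw [α.comm]; exact ((X.iw s).trans i).comm k⟩
      exact Intw.cj_unique (i.trans (X'.iw s)) j x.T
  have hg : X'.Good (mapEl α.mem i (X.uEl a)) := by
    refine ⟨by rw [← map_pow, (X.uEl_good a).1, map_one], ?_⟩
    rw [norm_apply, Finset.prod_congr rfl fun s _ => hnat s _, ← map_prod, ← norm_apply,
      (X.uEl_good a).2, map_one]
  have h := X'.good_unique hg (X'.uEl_good (mapM i α.mem a))
    (by rw [uEl_a]; exact congrArg (mapM i α.mem) (X.uEl_a a))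
  exact congrArg El.T h

/-- The operators permute the canonical section. -/
theorem u_act (s : S) (a : X.M) :
    (X.iw s).cj (X.u a) = X.u (mapM (X.iw s) (fun x => D.act_mem s x) a) := by
  have hg : X.Good (X.sig s (X.uEl a)) :=
    ⟨by rw [← map_pow, (X.uEl_good a).1, map_one], by rw [norm_sig, (X.uEl_good a).2]⟩
  have h := X.good_unique hg (X.uEl_good (mapM (X.iw s) (fun x => D.act_mem s x) a))
    (by rw [uEl_a]; exact congrArg (mapM (X.iw s) (fun x => D.act_mem s x)) (X.uEl_a a))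
  exact congrArg El.T h

end Mdl

end Setting

end CfsgLib.IsaacsOdd
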