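import Cfsg.Agent.Lib.IsaacsOdd.Heisenberg
import Cfsg.Agent.Lib.Characters.Clifford

/-!
# The operator `J` of an invariant character

`J = s⁻¹ ∑ u a` satisfies `J u a = u a⁻¹ J`, `J² = P = |R|⁻¹ ∑_{r ∈ R} u r`, where `R` is the
radical of the commutator pairing. Invariant characters of `N` below `θ` are seen only by `P`.
-/

set_option autoImplicit false
set_option linter.unusedSectionVars false
set_option linter.style.haveILetI false

open Cfsg CfsgLib.Characters Matrix
open scoped ComplexConjugate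

namespace CfsgLib.IsaacsOdd

universe u v

namespace Setting

variable {K : Type u} [Group K] [Fintype K] {S : Type v} [Group S] [Fintype S] {D : Setting K S}

namespace Mdl

variable (X : D.Mdl)

/-- The radical of the commutator pairing. -/
def R : Subgroup X.M where
  carrier := {a | ∀ b, X.omega a b = 1}
  one_mem' := X.omega_one
  mul_mem' := fun {a b} ha hb c => by rw [omega_mul_left, ha c, hb c, mul_one]
  inv_mem' := fun {a} ha c => by
    have h := X.omega_mul_left a⁻¹ a c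
    rw [inv_mul_cancel, X.omega_one, ha c, mul_one] at h
    exact h.symm

noncomputable instance instFintypeR : Fintype X.R := Fintype.ofFinite _

theorem z_of_mem_R {r : X.M} (h : r ∈ X.R) (b : X.M) : X.z r b = 1 := by
  rw [z, h b, one_pow]

theorem z_of_mem_R' {r : X.M} (h : r ∈ X.R) (b : X.M) : X.z b r = 1 := by
  rw [z_swap, X.z_of_mem_R h, inv_one]

theorem u_mul_of_R {r : X.M} (h : r ∈ X.R) (b : X.M) : X.u r * X.u b = X.u (r * b) := by
  rw [u_mul_u, X.z_of_mem_R h, one_smul]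

theorem u_mul_of_R' {r : X.M} (h : r ∈ X.R) (b : X.M) : X.u b * X.u r = X.u (b * r) := by
  rw [u_mul_u, X.z_of_mem_R' h, one_smul]

theorem u_mul_u_inv (a : X.M) : X.u a * X.u a⁻¹ = 1 := by
  rw [u_mul_u, X.z_swap a⁻¹ a, z_inv_left, z_self, inv_one, inv_one, one_smul, mul_inv_cancel,
    u_one]

/-- The normalising scalar, `√(|M||R|)`. -/
noncomputable def norming : ℝ := Real.sqrt ((Nat.card X.M : ℝ) * (Nat.card X.R : ℝ))

theorem norming_pos : 0 < X.norming :=
  Real.sqrt_pos.2 (mul_pos (Nat.cast_pos.2 Nat.card_pos) (Nat.cast_pos.2 Nat.card_pos))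

theorem norming_sq : (X.norming : ℂ) * (X.norming : ℂ) = (Nat.card X.M : ℂ) * (Nat.card X.R : ℂ) := by
  rw [← Complex.ofReal_mul, norming, Real.mul_self_sqrt (by positivity)]
  push_cast
  rfl

/-- The operator `J`. -/
noncomputable def J : Matrix (Fin X.m.d) (Fin X.m.d) ℂ := (X.norming : ℂ)⁻¹ • ∑ a : X.M, X.u a

/-- The average of the radical. -/
noncomputable def P : Matrix (Fin X.m.d) (Fin X.m.d) ℂ :=
  (Nat.card X.R : ℂ)⁻¹ • ∑ r : X.R, X.u r.1

theorem J_mul_u (b : X.M) : X.J * X.u b = X.u b⁻¹ * X.J := by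
  rw [J, Matrix.smul_mul, Matrix.mul_smul, Finset.sum_mul, Finset.mul_sum]
  congr 1
  refine Fintype.sum_equiv (Equiv.mulRight (b * b)) _ _ fun a => ?_
  show X.u a * X.u b = X.u b⁻¹ * X.u (a * (b * b))
  rw [u_mul_u, u_mul_u, show b⁻¹ * (a * (b * b)) = a * b by
    rw [← mul_assoc, mul_comm b⁻¹ a, mul_assoc, inv_mul_cancel_left]]
  congr 1
  rw [z_mul_right, z_mul_right, z_inv_left X b b, z_self, inv_one, mul_one, mul_one, z_inv_left,
    X.z_swap a b, inv_inv]

theorem sum_z (c : X.M) [Decidable (c ∈ X.R)] :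
    ∑ a : X.M, X.z a c = if c ∈ X.R then (Nat.card X.M : ℂ) else 0 := by
  split_ifs with h
  · rw [Finset.sum_congr rfl fun a _ => X.z_of_mem_R' h a, Finset.sum_const, Finset.card_univ,
      Nat.card_eq_fintype_card, nsmul_one]
  · obtain ⟨b, hb⟩ : ∃ b, X.omega c b ≠ 1 := by
      by_contra hc
      push Not at hc
      exact h hc
    have hzb : X.z b c ≠ 1 := by
      intro h1
      apply hb
      rw [← inv_inv (X.omega c b), ← X.omega_swap c b, ← X.z_sq, h1, one_pow, inv_one]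
    have h2 : X.z b c * ∑ a : X.M, X.z a c = ∑ a : X.M, X.z a c := by
      rw [Finset.mul_sum]
      exact Fintype.sum_equiv (Equiv.mulLeft b) _ _ fun a => (X.z_mul_left b a c).symm
    have h3 : (X.z b c - 1) * ∑ a : X.M, X.z a c = 0 := by rw [sub_mul, h2, one_mul, sub_self]
    exact (mul_eq_zero.1 h3).resolve_left (sub_ne_zero.2 hzb)

theorem J_mul_J : X.J * X.J = X.P := by
  classical
  rw [J, Matrix.smul_mul, Matrix.mul_smul, smul_smul, Finset.sum_mul]
  simp only [Finset.mul_sum, u_mul_u]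
  rw [Finset.sum_congr rfl fun a _ => Fintype.sum_equiv (Equiv.mulLeft a)
    (fun b => X.z a b • X.u (a * b)) (fun c => X.z a c • X.u c) fun b => by
      show _ = X.z a (a * b) • X.u (a * b)
      rw [z_mul_right, z_self, one_mul]]
  rw [Finset.sum_comm]
  simp only [← Finset.sum_smul, sum_z, ite_smul, zero_smul]
  rw [← Finset.sum_filter, ← mul_inv, norming_sq, P]
  rw [← Finset.smul_sum, smul_smul, mul_inv, mul_comm (Nat.card X.M : ℂ)⁻¹, mul_assoc,
    inv_mul_cancel₀ (Nat.cast_ne_zero.2 Nat.card_pos.ne'), mul_one]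
  congr 1
  exact Finset.sum_subtype _ (by simp) _

theorem u_mul_J_of_R {r : X.M} (h : r ∈ X.R) : X.u r * X.J = X.J := by
  rw [J, Matrix.mul_smul, Finset.mul_sum]
  congr 1
  exact Fintype.sum_equiv (Equiv.mulLeft r) _ _ fun a => X.u_mul_of_R h a

theorem P_mul_J : X.P * X.J = X.J := by
  rw [P, Matrix.smul_mul, Finset.sum_mul, Finset.sum_congr rfl fun r _ => X.u_mul_J_of_R r.2,
    Finset.sum_const, Finset.card_univ, ← Nat.cast_smul_eq_nsmul ℂ, smul_smul,
    Nat.card_eq_fintype_card, inv_mul_cancel₀ (Nat.cast_ne_zero.2 Fintype.card_ne_zero), one_smul]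

theorem J_mul_P : X.J * X.P = X.J := by
  rw [P, Matrix.mul_smul, Finset.mul_sum, Finset.sum_congr rfl fun r _ => by
    rw [X.J_mul_u, X.u_mul_J_of_R (X.R.inv_mem r.2)],
    Finset.sum_const, Finset.card_univ, ← Nat.cast_smul_eq_nsmul ℂ, smul_smul,
    Nat.card_eq_fintype_card, inv_mul_cancel₀ (Nat.cast_ne_zero.2 Fintype.card_ne_zero), one_smul]

theorem P_mul_P : X.P * X.P = X.P := by
  conv_lhs => arg 2; rw [← J_mul_J]
  rw [← Matrix.mul_assoc, P_mul_J, J_mul_J]

/-- The section extended by zero to all linear characters. -/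
noncomputable def uext (f : K →* ℂˣ) : Matrix (Fin X.m.d) (Fin X.m.d) ℂ :=
  open scoped Classical in if h : f ∈ X.M then X.u ⟨f, h⟩ else 0

theorem uext_of_mem {f : K →* ℂˣ} (h : f ∈ X.M) : X.uext f = X.u ⟨f, h⟩ := by
  classical
  rw [uext, dif_pos h]

theorem uext_of_notMem {f : K →* ℂˣ} (h : f ∉ X.M) : X.uext f = 0 := by
  classical
  rw [uext, dif_neg h]

theorem inA_uext (f : K →* ℂˣ) : X.InA f (X.uext f) := by
  by_cases h : f ∈ X.M
  · rw [X.uext_of_mem h]; exact X.inA_u _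
  · rw [X.uext_of_notMem h]; intro k; simp

theorem J_mul_uext (f : K →* ℂˣ) : X.J * X.uext f = X.uext f⁻¹ * X.J := by
  by_cases h : f ∈ X.M
  · rw [X.uext_of_mem h, X.uext_of_mem (X.M.inv_mem h)]
    exact X.J_mul_u ⟨f, h⟩
  · rw [X.uext_of_notMem h, X.uext_of_notMem fun h' => h (inv_inv f ▸ X.M.inv_mem h'),
      Matrix.mul_zero, Matrix.zero_mul]

theorem uext_mul_uext_inv [DecidablePred (· ∈ X.M)] (f : K →* ℂˣ) :
    X.uext f * X.uext f⁻¹ = if f ∈ X.M then 1 else 0 := by
  split_ifs with h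
  · rw [X.uext_of_mem h, X.uext_of_mem (X.M.inv_mem h)]
    exact X.u_mul_u_inv ⟨f, h⟩
  · rw [X.uext_of_notMem h, Matrix.zero_mul]

/-! ## Transport -/

section Map

variable {X} {X' : D.Mdl} (α : D.Auto) (i : Intw α.e X.m X'.m)

theorem mapM_mem_R_iff (a : X.M) : mapM i α.mem a ∈ X'.R ↔ a ∈ X.R := by
  refine ⟨fun h b => ?_, fun h b => ?_⟩
  · rw [← omega_map α.mem i a b]; exact h _
  · obtain ⟨b, rfl⟩ := (mapM_bijective α.mem i).2 b
    rw [omega_map α.mem i]; exact h b

include α i in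
theorem card_M_map : Nat.card X'.M = Nat.card X.M :=
  (Nat.card_congr (Equiv.ofBijective _ (mapM_bijective α.mem i))).symm

include α i in
theorem card_R_map : Nat.card X'.R = Nat.card X.R := by
  refine (Nat.card_congr (Equiv.ofBijective
    (fun r : X.R => (⟨mapM i α.mem r.1, (mapM_mem_R_iff α i r.1).2 r.2⟩ : X'.R))
    ⟨fun a b h => Subtype.ext ((mapM_bijective α.mem i).1 (congrArg Subtype.val h)), fun b => ?_⟩)).symm
  obtain ⟨a, ha⟩ := (mapM_bijective α.mem i).2 b.1
  exact ⟨⟨a, (mapM_mem_R_iff α i a).1 (ha ▸ b.2)⟩, Subtype.ext ha⟩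

theorem J_map : i.cj X.J = X'.J := by
  rw [J, J, i.cj_smul, i.cj_sum, norming, norming, card_M_map α i, card_R_map α i]
  congr 1
  exact Fintype.sum_equiv (Equiv.ofBijective _ (mapM_bijective α.mem i)) _ _
    fun a => X.u_map α i a

theorem P_map : i.cj X.P = X'.P := by
  rw [P, P, i.cj_smul, i.cj_sum, card_R_map α i]
  congr 1
  refine Fintype.sum_bijective
    (fun r : X.R => (⟨mapM i α.mem r.1, (mapM_mem_R_iff α i r.1).2 r.2⟩ : X'.R))
    ⟨fun a b h => Subtype.ext ((mapM_bijective α.mem i).1 (congrArg Subtype.val h)), fun b => ?_⟩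
    _ _ fun r => X.u_map α i r.1
  obtain ⟨a, ha⟩ := (mapM_bijective α.mem i).2 b.1
  exact ⟨⟨a, (mapM_mem_R_iff α i a).1 (ha ▸ b.2)⟩, Subtype.ext ha⟩

theorem uext_map (f : K →* ℂˣ) : i.cj (X.uext f) = X'.uext (tw α.e f) := by
  by_cases h : f ∈ X.M
  · rw [X.uext_of_mem h, X'.uext_of_mem (tw_mem_M i α.mem h)]
    exact X.u_map α i ⟨f, h⟩
  · rw [X.uext_of_notMem h, X'.uext_of_notMem fun h' => h (by
      have h2 := tw_mem_M i.symm (D.symm_mem α.mem) h'
      rwa [tw_tw, MulEquiv.self_trans_symm, show tw (MulEquiv.refl K) f = f from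
        MonoidHom.ext fun _ => rfl] at h2)]
    simp [Intw.cj]

end Map

theorem J_act (s : S) : (X.iw s).cj X.J = X.J := by
  rw [J, (X.iw s).cj_smul, (X.iw s).cj_sum]
  congr 1
  exact Fintype.sum_equiv
    (Equiv.ofBijective _ (mapM_bijective (fun x => D.act_mem s x) (X.iw s))) _ _
    fun a => X.u_act s a

/-! ## The centraliser of `N` -/

theorem eq_zero_of_notMem {f : K →* ℂˣ} (hf : f ∈ chr D.N) (h : f ∉ X.M)
    {T : Matrix (Fin X.m.d) (Fin X.m.d) ℂ} (hT : X.InA f T) : T = 0 := by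
  classical
  have hne : X.m.char ≠ (X.m.twist f).char := by
    intro he
    refine h ⟨hf, fun k => ?_⟩
    conv_rhs => rw [he, IrrModel.twist_char]
  have heig : ∀ k, sandRep X.m.rho X.m.rho k T = (f k : ℂ) • T := fun k => by
    rw [sandRep_apply, sand_apply, hT k, Matrix.smul_mul, Matrix.mul_assoc, ← map_mul,
      mul_inv_cancel, map_one, Matrix.mul_one]
  have h0 : proj (sandRep X.m.rho X.m.rho) f = 0 := by
    refine idempotent_eq_zero_of_trace (proj_mul_self _ _) ?_
    rw [trace_proj]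
    have hi := classInner_irr X.m.char (X.m.twist f).char
    rw [if_neg hne, classInner] at hi
    rw [← hi]
    congr 1
    refine Finset.sum_congr rfl fun k _ => ?_
    rw [sandRep_apply, trace_sand, IrrModel.twist_char, map_mul, ← irr_apply_inv X.m.char,
      IrrModel.char_apply, IrrModel.char_apply]
    have hconj : conj (f k : ℂ) = (f k : ℂ)⁻¹ := by
      have h1 := irr_apply_inv (⟨_, isIrrCharacter_of_hom f⟩ : IrrCharacter K) k
      show conj (f k : ℂ) = _
      rw [← h1]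
      show ((f k⁻¹ : ℂˣ) : ℂ) = _
      simp
    rw [hconj]
    ring
  rw [← proj_apply_of_eigen (sandRep X.m.rho X.m.rho) f heig, h0, LinearMap.zero_apply]

theorem commute_u_of_commute {r : X.M} (hr : r ∈ X.R) {T : Matrix (Fin X.m.d) (Fin X.m.d) ℂ}
    (hT : ∀ l ∈ D.N, X.m.rho l * T = T * X.m.rho l) : X.u r * T = T * X.u r := by
  classical
  haveI := D.normal
  haveI : Fintype (chr D.N) := Fintype.ofFinite _
  haveI : Fintype D.N := Fintype.ofFinite _
  have hsum : T = ∑ f : chr D.N, proj (sandRep X.m.rho X.m.rho) f.1 T := by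
    rw [← LinearMap.sum_apply, sum_proj D.N D.comm]
    simp only [LinearMap.smul_apply, LinearMap.sum_apply, sandRep_apply, sand_apply]
    rw [Finset.sum_congr rfl fun l _ => show X.m.rho l.1 * T * X.m.rho l.1⁻¹ = T by
      rw [hT _ l.2, Matrix.mul_assoc, ← map_mul, mul_inv_cancel, map_one, Matrix.mul_one],
      Finset.sum_const, Finset.card_univ, ← Nat.cast_smul_eq_nsmul ℂ, smul_smul,
      Nat.card_eq_fintype_card, inv_mul_cancel₀ (Nat.cast_ne_zero.2 Fintype.card_ne_zero), one_smul]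
  rw [hsum, Matrix.mul_sum, Matrix.sum_mul]
  refine Finset.sum_congr rfl fun f _ => ?_
  have hin : X.InA f.1 (proj (sandRep X.m.rho X.m.rho) f.1 T) := fun k => by
    have h := eigen_proj_apply (sandRep X.m.rho X.m.rho) f.1 k T
    rw [sandRep_apply, sand_apply] at h
    rw [← Matrix.smul_mul, ← h, Matrix.mul_assoc, ← map_mul, inv_mul_cancel, map_one, Matrix.mul_one]
  by_cases hf : f.1 ∈ X.M
  · obtain ⟨c, hc⟩ := X.eq_smul_u ⟨f.1, hf⟩ hin
    rw [hc, Matrix.mul_smul, Matrix.smul_mul, X.u_mul_of_R hr, X.u_mul_of_R' hr, mul_comm]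
  · rw [X.eq_zero_of_notMem f.2 hf hin, Matrix.mul_zero, Matrix.zero_mul]

theorem u_commute_rho (a : X.M) {l : K} (hl : l ∈ D.N) : X.m.rho l * X.u a = X.u a * X.m.rho l := by
  rw [X.inA_u a l, a.2.1 l hl, Units.val_one, one_smul]

theorem trace_rho_u {a : X.M} (ha : a ∉ X.R) {l : K} (hl : l ∈ D.N) :
    (X.m.rho l * X.u a).trace = 0 := by
  obtain ⟨b, hb⟩ : ∃ b, X.omega a b ≠ 1 := by
    by_contra hc
    push Not at hc
    exact ha hc
  have h1 : (X.m.rho l * X.u a * X.u b * X.u b⁻¹).trace = (X.m.rho l * X.u a).trace := by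
    rw [Matrix.mul_assoc (X.m.rho l * X.u a), u_mul_u_inv, Matrix.mul_one]
  rw [Matrix.mul_assoc (X.m.rho l), X.omega_spec (X.inA_u a) (X.inA_u b), Matrix.mul_smul,
    Matrix.smul_mul, Matrix.trace_smul, Matrix.trace_mul_comm _ (X.u b⁻¹), ← Matrix.mul_assoc,
    Matrix.mul_assoc (X.u b⁻¹), ← Matrix.mul_assoc (X.m.rho l), X.u_commute_rho b hl,
    Matrix.mul_assoc (X.u b), ← Matrix.mul_assoc (X.u b⁻¹)] at h1
  rw [show X.u b⁻¹ * X.u b = 1 by have := X.u_mul_u_inv b⁻¹; rwa [inv_inv] at this,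
    Matrix.one_mul, smul_eq_mul] at h1
  have h2 : (X.omega a b - 1) * (X.m.rho l * X.u a).trace = 0 := by
    rw [sub_mul, h1, one_mul, sub_self]
  exact (mul_eq_zero.1 h2).resolve_left (sub_ne_zero.2 hb)

theorem trace_rho_J {l : K} (hl : l ∈ D.N) :
    (X.m.rho l * X.J).trace =
      (Nat.card X.R : ℂ) / (X.norming : ℂ) * (X.m.rho l * X.P).trace := by
  classical
  rw [J, P, Matrix.mul_smul, Matrix.trace_smul, Matrix.mul_smul, Matrix.trace_smul, Matrix.mul_sum,
    Matrix.trace_sum, Matrix.mul_sum, Matrix.trace_sum, smul_eq_mul, smul_eq_mul,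
    ← Finset.sum_subset (Finset.subset_univ (Finset.univ.filter fun a : X.M => a ∈ X.R))
      fun a _ ha => X.trace_rho_u (by simpa using ha) hl,
    Finset.sum_subtype (Finset.univ.filter fun a : X.M => a ∈ X.R) (p := fun a => a ∈ X.R) (by simp)]
  have hR : (Nat.card X.R : ℂ) ≠ 0 := Nat.cast_ne_zero.2 Nat.card_pos.ne'
  field_simp

/-! ## Invariant constituents below -/

/-- The restriction to `N`. -/
def rhoN : D.N →* Matrix (Fin X.m.d) (Fin X.m.d) ℂ := X.m.rho.comp D.N.subtype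

/-- The projection on the `c`-part of the radical. -/
noncomputable def Pl (c : X.R →* ℂˣ) : Matrix (Fin X.m.d) (Fin X.m.d) ℂ :=
  proj (⟨⟨fun r => X.u r.1, X.u_one⟩, fun r r' => (X.u_mul_of_R r.2 r'.1).symm⟩ :
    X.R →* Matrix (Fin X.m.d) (Fin X.m.d) ℂ) c

theorem Pl_apply (c : X.R →* ℂˣ) :
    X.Pl c = (Nat.card X.R : ℂ)⁻¹ • ∑ r : X.R, ((c r : ℂˣ) : ℂ)⁻¹ • X.u r.1 := rfl

theorem Pl_one : X.Pl 1 = X.P := by simp [Pl_apply, P]

theorem commute_Pl {T : Matrix (Fin X.m.d) (Fin X.m.d) ℂ}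
    (hT : ∀ l ∈ D.N, X.m.rho l * T = T * X.m.rho l) (c : X.R →* ℂˣ) : X.Pl c * T = T * X.Pl c := by
  rw [Pl_apply, Matrix.smul_mul, Matrix.mul_smul, Finset.sum_mul, Finset.mul_sum]
  congr 1
  refine Finset.sum_congr rfl fun r _ => ?_
  rw [Matrix.smul_mul, Matrix.mul_smul, X.commute_u_of_commute r.2 hT]

theorem rhoN_Pl (c : X.R →* ℂˣ) (l : D.N) : X.rhoN l * X.Pl c = X.Pl c * X.rhoN l := by
  rw [Pl_apply, Matrix.smul_mul, Matrix.mul_smul, Finset.sum_mul, Finset.mul_sum]
  congr 1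
  refine Finset.sum_congr rfl fun r _ => ?_
  rw [Matrix.smul_mul, Matrix.mul_smul]
  congr 1
  exact X.u_commute_rho r.1 l.2

/-- The character of `N` on the `c`-part. -/
noncomputable def gl (c : X.R →* ℂˣ) (l : D.N) : ℂ := (X.rhoN l * X.Pl c).trace

theorem isCharacter_gl (c : X.R →* ℂˣ) : IsCharacter D.N (X.gl c) :=
  isCharacter_trace_mul_idem X.rhoN (proj_mul_self _ c) (X.rhoN_Pl c)

theorem classInner_gl_gl [Fintype D.N] {c c' : X.R →* ℂˣ} (h : c ≠ c') :
    classInner (X.gl c) (X.gl c') = 0 := by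
  rw [classInner]
  refine mul_eq_zero_of_right _ ?_
  have hz : ∑ l : D.N, sand (X.rhoN l * X.Pl c) (X.Pl c' * X.rhoN l⁻¹) = 0 := by
    refine LinearMap.ext fun y => ?_
    simp only [LinearMap.sum_apply, sand_apply, LinearMap.zero_apply]
    have e : ∀ l : D.N, X.rhoN l * X.Pl c * y * (X.Pl c' * X.rhoN l⁻¹) =
        X.Pl c * (X.rhoN l * y * X.rhoN l⁻¹) * X.Pl c' := fun l => by
      rw [X.rhoN_Pl c l, ← X.rhoN_Pl c' l⁻¹]
      simp only [Matrix.mul_assoc]
    rw [Finset.sum_congr rfl fun l _ => e l, ← Finset.sum_mul, ← Finset.mul_sum]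
    set Z := ∑ l : D.N, X.rhoN l * y * X.rhoN l⁻¹ with hZ
    have hZc : ∀ a ∈ D.N, X.m.rho a * Z = Z * X.m.rho a := by
      intro a ha
      show X.rhoN ⟨a, ha⟩ * Z = Z * X.rhoN ⟨a, ha⟩
      rw [hZ, Finset.mul_sum, Finset.sum_mul]
      refine Fintype.sum_equiv (Equiv.mulLeft ⟨a, ha⟩) _ _ fun l => ?_
      simp only [Equiv.coe_mulLeft, _root_.mul_inv_rev, map_mul, Matrix.mul_assoc]
      rw [← map_mul X.rhoN (⟨a, ha⟩ : D.N)⁻¹, inv_mul_cancel, map_one, Matrix.mul_one]
    rw [X.commute_Pl hZc c, Matrix.mul_assoc, show X.Pl c * X.Pl c' = 0 from proj_mul_proj_of_ne _ h,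
      Matrix.mul_zero]
  have h2 := congrArg (LinearMap.trace ℂ (Matrix (Fin X.m.d) (Fin X.m.d) ℂ)) hz
  rw [map_zero, map_sum] at h2
  rw [← h2]
  refine Finset.sum_congr rfl fun l _ => ?_
  rw [trace_sand, ← char_apply_inv (X.isCharacter_gl c'), gl, gl, ← X.rhoN_Pl c' l⁻¹]

theorem sum_Pl [Fintype (chr (⊥ : Subgroup X.R))] :
    ∑ c : chr (⊥ : Subgroup X.R), X.Pl c.1 = 1 := by
  classical
  haveI : (⊥ : Subgroup X.R).Normal := inferInstance
  haveI : Fintype (⊥ : Subgroup X.R) := Fintype.ofFinite _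
  simp only [Pl]
  rw [sum_proj (⊥ : Subgroup X.R) fun a b => by
    rw [Subgroup.mem_bot]; simp [mul_comm a b], Fintype.sum_unique]
  show (Nat.card (⊥ : Subgroup X.R) : ℂ)⁻¹ •
    X.u (((default : (⊥ : Subgroup X.R)) : X.R) : X.M) = 1
  rw [Subgroup.card_bot, Nat.cast_one, inv_one, one_smul,
    show ((default : (⊥ : Subgroup X.R)) : X.R) = 1 from Subgroup.mem_bot.1 (default : (⊥ : Subgroup X.R)).2]
  exact X.u_one

/-- An invariant irreducible character of `N` lies only in the `P`-part. -/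
theorem classInner_one_sub_P [Fintype D.N] (φ : IrrCharacter D.N)
    (hφ : ∀ s (x y : D.N), (y : K) = D.act s x → (φ : D.N → ℂ) y = (φ : D.N → ℂ) x) :
    classInner (fun l : D.N => (X.rhoN l * (1 - X.P)).trace) (φ : D.N → ℂ) = 0 := by
  classical
  haveI : Fintype (chr (⊥ : Subgroup X.R)) := Fintype.ofFinite _
  -- the parts on which `φ` occurs are invariant
  have key : ∀ c : X.R →* ℂˣ, classInner (X.gl c) (φ : D.N → ℂ) ≠ 0 → c = 1 := by
    intro c hc
    -- operators on the radical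
    have hR : ∀ s (r : X.R), mapM (X.iw s) (fun x => D.act_mem s x) r.1 ∈ X.R := by
      intro s r b
      obtain ⟨b, rfl⟩ := (mapM_bijective (fun x => D.act_mem s x) (X.iw s)).2 b
      rw [omega_map (fun x => D.act_mem s x) (X.iw s)]; exact r.2 b
    let φR : S → (X.R →* X.R) := fun s =>
      ((mapM (X.iw s) (fun x => D.act_mem s x)).comp X.R.subtype).codRestrict X.R (hR s)
    have hcinv : ∀ s r, c (φR s r) = c r := by
      intro s
      have hsur : Function.Surjective (φR s) := Finite.surjective_of_injective fun a b h =>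
        Subtype.ext ((mapM_bijective (fun x => D.act_mem s x) (X.iw s)).1 (congrArg Subtype.val h))
      let c' : X.R →* ℂˣ := c.comp (φR s)
      -- `g_{c'} ∘ s⁻¹ = g_c`
      have hPl : (X.iw s).cj (X.Pl c') = X.Pl c := by
        rw [Pl_apply, Pl_apply, (X.iw s).cj_smul, (X.iw s).cj_sum]
        congr 1
        refine Fintype.sum_bijective (φR s) ⟨fun a b h => Subtype.ext
          ((mapM_bijective (fun x => D.act_mem s x) (X.iw s)).1 (congrArg Subtype.val h)), hsur⟩
          _ _ fun r => ?_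
        rw [(X.iw s).cj_smul, X.u_act s r.1]; rfl
      have hval : ∀ x y : D.N, (y : K) = D.act s x → X.gl c y = X.gl c' x := by
        intro x y hy
        show (X.m.rho y * X.Pl c).trace = (X.m.rho x * X.Pl c').trace
        rw [hy, ← hPl, ← (X.iw s).cj_rho, ← Intw.cj_mul, Intw.cj_trace]
      have hc' : classInner (X.gl c') (φ : D.N → ℂ) = classInner (X.gl c) (φ : D.N → ℂ) := by
        rw [classInner, classInner]
        congr 1
        refine Fintype.sum_bijective (fun x : D.N => (⟨D.act s x, D.stable s x x.2⟩ : D.N))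
          ⟨fun a b h => Subtype.ext ((D.act s).injective (congrArg Subtype.val h)),
            Finite.surjective_of_injective fun a b h =>
              Subtype.ext ((D.act s).injective (congrArg Subtype.val h))⟩ _ _ fun x => ?_
        rw [hval x ⟨D.act s x, D.stable s x x.2⟩ rfl, hφ s x ⟨D.act s x, D.stable s x x.2⟩ rfl]
      intro r
      by_contra hne
      have hd : c' ≠ c := fun h => hne (congrArg (fun f : X.R →* ℂˣ => f r) h)
      obtain ⟨p, hp, hps⟩ := CfsgLib.Clifford.exists_mult (X.isCharacter_gl c')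
      obtain ⟨q, hq, hqs⟩ := CfsgLib.Clifford.exists_mult (X.isCharacter_gl c)
      have hval2 : classInner (X.gl c') (X.gl c) = ∑ ξ : IrrCharacter D.N, (p ξ : ℂ) * (q ξ : ℂ) := by
        rw [hps, classInner_sum_left]
        refine Finset.sum_congr rfl fun ξ _ => ?_
        rw [classInner_smul_left, classInner_conj_symm, hq, Complex.conj_natCast]
      rw [X.classInner_gl_gl hd] at hval2
      have h0 : ∑ ξ : IrrCharacter D.N, p ξ * q ξ = 0 := by exact_mod_cast hval2.symm
      rcases mul_eq_zero.1 (Finset.sum_eq_zero_iff.1 h0 φ (Finset.mem_univ _)) with h1 | h1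
      · exact hc (by rw [← hc', hp, h1, Nat.cast_zero])
      · exact hc (by rw [hq, h1, Nat.cast_zero])
    -- coprime operators without fixed points
    refine MonoidHom.ext fun r => ?_
    have hprod : (∏ s : S, φR s r) = 1 := by
      have h2 : (X.norm (X.uEl r.1)).a = 1 := X.norm_fst _
      rw [norm_apply, show (∏ s : S, X.sig s (X.uEl r.1)).a = ∏ s : S, (X.sig s (X.uEl r.1)).a from
        map_prod El.fst _ _] at h2
      refine Subtype.ext ?_
      rw [SubmonoidClass.coe_finsetProd, Subgroup.coe_one, ← h2]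
      refine Finset.prod_congr rfl fun s _ => ?_
      show mapM (X.iw s) (fun x => D.act_mem s x) r.1 = mapM (X.iw s) _ (X.uEl r.1).a
      rw [uEl_a]
    have h1 : c r ^ Nat.card S = 1 := by
      have h3 := congrArg c hprod
      rwa [map_prod, map_one, Finset.prod_congr rfl fun s _ => hcinv s r, Finset.prod_const,
        Finset.card_univ, ← Nat.card_eq_fintype_card] at h3
    have h4 : c r ^ Nat.card K = 1 := by
      rw [← map_pow, show r ^ Nat.card K = 1 from Subtype.ext (X.pow_card_M r.1), map_one]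
    exact D.eq_one_of_pow h4 h1
  have e : (fun l : D.N => (X.rhoN l * (1 - X.P)).trace) =
      (∑ c : chr (⊥ : Subgroup X.R), X.gl c.1) - X.gl 1 := by
    funext l
    rw [Pi.sub_apply, Finset.sum_apply]
    simp only [gl]
    rw [← Matrix.trace_sum, ← Matrix.mul_sum, X.sum_Pl, ← Matrix.trace_sub, ← Matrix.mul_sub,
      Pl_one]
  rw [e, classInner_sub_left, classInner_sum_left,
    Finset.sum_eq_single (⟨1, (chr (⊥ : Subgroup X.R)).one_mem⟩ : chr (⊥ : Subgroup X.R))
      (fun c _ hc => by_contra fun h => hc (Subtype.ext (key c.1 h))) (by simp), sub_self]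

end Mdl

end Setting

end CfsgLib.IsaacsOdd
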