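import Cfsg.Agent.Lib.IsaacsOdd.Section
import Cfsg.Agent.Lib.Characters.Generalized

/-!
# The correspondence of invariant characters across an abelian section in odd order

`G = K C` with `C` centralised by the coprime operators, `H = N C`, `K/N` abelian without fixed
points. For an invariant irreducible `χ`, the class function `f χ h = ∑ J k χ (h k)` is `±` an
invariant irreducible character of `H`; this is the only invariant constituent of odd multiplicity.
-/

set_option autoImplicit false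
set_option linter.unusedSectionVars false
set_option linter.style.haveILetI false

open Cfsg CfsgLib.Characters CfsgLib.CharCorr Matrix
open scoped ComplexConjugate

namespace CfsgLib.IsaacsOdd

universe u v

/-- The data of the correspondence. -/
structure Config (G : Type u) [Group G] (S : Type v) [Group S] where
  /-- the action -/
  act : S →* MulAut G
  /-- the top of the section -/
  K : Subgroup G
  /-- the bottom of the section -/
  N : Subgroup G
  /-- the complement -/
  C : Subgroup G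
  /-- the subgroup `N C` -/
  H : Subgroup G
  normalK : K.Normal
  normalN : N.Normal
  le : N ≤ K
  stableK : ∀ s, ∀ x ∈ K, act s x ∈ K
  stableN : ∀ s, ∀ x ∈ N, act s x ∈ N
  fixC : ∀ c ∈ C, ∀ s, act s c = c
  top : ∀ g, ∃ k ∈ K, ∃ c ∈ C, g = k * c
  memH : ∀ h, h ∈ H ↔ ∃ l ∈ N, ∃ c ∈ C, h = l * c
  comm : ∀ a ∈ K, ∀ b ∈ K, a * b * a⁻¹ * b⁻¹ ∈ N
  fix : ∀ k ∈ K, (∀ s, k⁻¹ * act s k ∈ N) → k ∈ N
  odd : Odd (Nat.card G)
  cop : (Nat.card G).Coprime (Nat.card S)
  solv : Group.IsSolvable G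

namespace Config

variable {G : Type u} [Group G] {S : Type v} [Group S] (E : Config G S)

theorem N_le_H : E.N ≤ E.H := fun l hl => (E.memH l).2 ⟨l, hl, 1, E.C.one_mem, (mul_one l).symm⟩

theorem C_le_H : E.C ≤ E.H := fun c hc => (E.memH c).2 ⟨1, E.N.one_mem, c, hc, (one_mul c).symm⟩

theorem stableH (s : S) : ∀ x ∈ E.H, E.act s x ∈ E.H := by
  intro x hx
  obtain ⟨l, hl, c, hc, rfl⟩ := (E.memH x).1 hx
  exact (E.memH _).2 ⟨_, E.stableN s l hl, c, hc, by rw [map_mul, E.fixC c hc]⟩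

/-- The operators on `H`. -/
def actH : S →* MulAut E.H := restrictAct E.act E.H E.stableH

variable [Fintype G]

noncomputable instance instFintypeK : Fintype E.K := Fintype.ofFinite _

noncomputable instance instFintypeH : Fintype E.H := Fintype.ofFinite _

/-- The section as a setting. -/
def D : Setting E.K S where
  act := restrictAct E.act E.K E.stableK
  N := E.N.subgroupOf E.K
  normal := by haveI := E.normalN; exact inferInstanceAs (E.N.subgroupOf E.K).Normal
  stable s x hx := E.stableN s _ hx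
  comm a b := E.comm a a.2 b b.2
  fix k hk := E.fix k k.2 hk
  odd := E.odd.of_dvd_nat (Subgroup.card_subgroup_dvd_card E.K)
  cop := E.cop.coprime_dvd_left (Subgroup.card_subgroup_dvd_card E.K)

noncomputable instance instFintypeDN : Fintype E.D.N := Fintype.ofFinite _

/-- Conjugation on `K`. -/
def cK (g : G) : MulAut E.K := haveI := E.normalK; MulAut.conjNormal g

theorem cK_coe (g : G) (k : E.K) : ((E.cK g k : E.K) : G) = g * k * g⁻¹ := by
  haveI := E.normalK
  exact MulAut.conjNormal_apply g k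

/-- Conjugation by an element of `C`. -/
def autoC (c : G) (hc : c ∈ E.C) : E.D.Auto where
  e := E.cK c
  mem x := by
    show ((E.cK c x : E.K) : G) ∈ E.N ↔ (x : G) ∈ E.N
    rw [E.cK_coe]
    refine ⟨fun h => ?_, fun h => E.normalN.conj_mem _ h c⟩
    have h2 := E.normalN.conj_mem _ h c⁻¹
    simpa [mul_assoc] using h2
  comm s k := Subtype.ext (by
    show E.act s ((E.cK c k : E.K) : G) = ((E.cK c (E.D.act s k) : E.K) : G)
    rw [E.cK_coe, E.cK_coe, map_mul, map_mul, map_inv, E.fixC c hc]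
    rfl)

theorem autoC_pow (c : G) (hc : c ∈ E.C) :
    ((E.autoC c hc).e : MulAut E.K) ^ Nat.card G = 1 := by
  haveI := E.normalK
  show (MulAut.conjNormal c : MulAut E.K) ^ Nat.card G = 1
  rw [← map_pow, pow_card_eq_one', map_one]

/-- A matrix representation of a character. -/
noncomputable def rep (_E : Config G S) (χ : IrrCharacter G) :
    G →* Matrix (Fin (IrrModel.of χ).d) (Fin (IrrModel.of χ).d) ℂ :=
  (IrrModel.of χ).rho

theorem trace_rep (χ : IrrCharacter G) (g : G) : (E.rep χ g).trace = (χ : G → ℂ) g := by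
  rw [rep, ← IrrModel.char_apply, IrrModel.of_char]

/-- The representation restricted to `K`. -/
noncomputable def repK (χ : IrrCharacter G) :
    E.K →* Matrix (Fin (IrrModel.of χ).d) (Fin (IrrModel.of χ).d) ℂ :=
  (E.rep χ).comp E.K.subtype

variable [Fintype S]

/-- The transform of the universal `J`. -/
noncomputable def Jm (χ : IrrCharacter G) : Matrix (Fin (IrrModel.of χ).d) (Fin (IrrModel.of χ).d) ℂ :=
  sigmaFun (E.repK χ) E.D.Jfun

/-- The transform of the universal `P`. -/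
noncomputable def Pm (χ : IrrCharacter G) : Matrix (Fin (IrrModel.of χ).d) (Fin (IrrModel.of χ).d) ℂ :=
  sigmaFun (E.repK χ) E.D.Pfun

/-- The representation restricted to `H`. -/
noncomputable def repH (χ : IrrCharacter G) :
    E.H →* Matrix (Fin (IrrModel.of χ).d) (Fin (IrrModel.of χ).d) ℂ :=
  (E.rep χ).comp E.H.subtype

theorem exists_realised (h : E.H) : ∃ (c : G) (hc : c ∈ E.C), ∀ χ : IrrCharacter G,
    ∃ r : Setting.Realised (E.autoC c hc) (E.cK (h : G)) (E.repK χ),
      r.Q = E.repH χ h ∧ r.Qi = E.repH χ h⁻¹ := by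
  obtain ⟨l, hl, c, hc, hh⟩ := (E.memH h).1 h.2
  refine ⟨c, hc, fun χ => ⟨⟨E.repH χ h, E.repH χ h⁻¹, ?_, fun k => ?_, ⟨l, E.le hl⟩, hl, fun k => ?_⟩,
    rfl, rfl⟩⟩
  · rw [← map_mul, inv_mul_cancel, map_one]
  · show E.rep χ h * E.rep χ k * E.rep χ ((h⁻¹ : E.H) : G) = E.rep χ ((E.cK (h : G) k : E.K) : G)
    rw [E.cK_coe, ← map_mul, ← map_mul, InvMemClass.coe_inv]
  · refine Subtype.ext ?_
    show ((E.cK (h : G) k : E.K) : G) = l * ((E.cK c k : E.K) : G) * l⁻¹
    rw [E.cK_coe, E.cK_coe, hh]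
    group

theorem comm_Jm (χ : IrrCharacter G) (h : E.H) : E.repH χ h * E.Jm χ = E.Jm χ * E.repH χ h := by
  obtain ⟨c, hc, hr⟩ := E.exists_realised h
  obtain ⟨r, hQ, hQi⟩ := hr χ
  have h1 := r.J
  rw [hQ, hQi] at h1
  calc E.repH χ h * E.Jm χ = E.repH χ h * E.Jm χ * (E.repH χ h⁻¹ * E.repH χ h) := by
        rw [← map_mul, inv_mul_cancel, map_one, Matrix.mul_one]
    _ = E.Jm χ * E.repH χ h := by rw [← Matrix.mul_assoc, Jm, h1]

theorem comm_Pm (χ : IrrCharacter G) (h : E.H) : E.repH χ h * E.Pm χ = E.Pm χ * E.repH χ h := by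
  rw [show E.Pm χ = E.Jm χ * E.Jm χ from (Setting.sigma_J_sq E.D _).symm, ← Matrix.mul_assoc,
    E.comm_Jm, Matrix.mul_assoc, E.comm_Jm, Matrix.mul_assoc]

/-- The signed character of `H` attached to `χ`. -/
noncomputable def f (χ : IrrCharacter G) (h : E.H) : ℂ :=
  ∑ k : E.K, E.D.Jfun k * (χ : G → ℂ) ((h : G) * k)

theorem f_eq_trace (χ : IrrCharacter G) (h : E.H) :
    E.f χ h = (E.repH χ h * E.Jm χ).trace := by
  rw [Jm, trace_mul_sigmaFun]
  refine Finset.sum_congr rfl fun k _ => ?_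
  show _ = E.D.Jfun k * (E.rep χ h * E.rep χ k).trace
  rw [← map_mul, trace_rep]

/-- All constituents on `K` are invariant. -/
def InTh (χ : IrrCharacter G) : Prop := E.D.InTheta (E.repK χ)

/-- The half-idempotent `(P ± J)/2`. -/
noncomputable def part (χ : IrrCharacter G) (e : ℂ) :
    Matrix (Fin (IrrModel.of χ).d) (Fin (IrrModel.of χ).d) ℂ :=
  (2 : ℂ)⁻¹ • (E.Pm χ + e • E.Jm χ)

theorem part_idem (χ : IrrCharacter G) {e : ℂ} (he : e * e = 1) :
    E.part χ e * E.part χ e = E.part χ e := by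
  have hJJ : E.Jm χ * E.Jm χ = E.Pm χ := Setting.sigma_J_sq E.D _
  have hPJ : E.Pm χ * E.Jm χ = E.Jm χ := Setting.sigma_P_mul_J E.D _
  have hJP : E.Jm χ * E.Pm χ = E.Jm χ := Setting.sigma_J_mul_P E.D _
  have hPP : E.Pm χ * E.Pm χ = E.Pm χ := Setting.sigma_P_sq E.D _
  simp only [part, Matrix.smul_mul, Matrix.mul_smul, Matrix.add_mul, Matrix.mul_add, hJJ, hPJ, hJP,
    hPP, smul_add, smul_smul]
  rw [show (2 : ℂ)⁻¹ * e * ((2 : ℂ)⁻¹ * e) = (2 : ℂ)⁻¹ * (2 : ℂ)⁻¹ by
    linear_combination ((2 : ℂ)⁻¹ * (2 : ℂ)⁻¹) * he]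
  module

/-- A character of `H` cut out by a commuting idempotent. -/
theorem isCharacter_part (χ : IrrCharacter G) {e : ℂ} (he : e * e = 1) :
    IsCharacter E.H fun h => (E.repH χ h * E.part χ e).trace :=
  isCharacter_trace_mul_idem _ (E.part_idem χ he) fun h => by
    rw [part, Matrix.mul_smul, Matrix.smul_mul, Matrix.mul_add, Matrix.add_mul, Matrix.mul_smul,
      Matrix.smul_mul, E.comm_Jm, E.comm_Pm]

theorem isCharacter_rest (χ : IrrCharacter G) :
    IsCharacter E.H fun h => (E.repH χ h * (1 - E.Pm χ)).trace :=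
  isCharacter_trace_mul_idem _ (by
    have hPP : E.Pm χ * E.Pm χ = E.Pm χ := Setting.sigma_P_sq E.D _
    simp [Matrix.sub_mul, Matrix.mul_sub, hPP]) fun h => by
    rw [Matrix.mul_sub, Matrix.sub_mul, E.comm_Pm, Matrix.mul_one, Matrix.one_mul]

theorem f_eq_sub (χ : IrrCharacter G) :
    E.f χ = (fun h => (E.repH χ h * E.part χ 1).trace) -
      fun h => (E.repH χ h * E.part χ (-1)).trace := by
  funext h
  rw [Pi.sub_apply, f_eq_trace, ← Matrix.trace_sub, ← Matrix.mul_sub]
  congr 2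
  simp only [part]
  module

theorem isGeneralized_f (χ : IrrCharacter G) : IsGeneralizedCharacter E.H (E.f χ) := by
  rw [f_eq_sub]
  exact isGeneralizedCharacter_sub
    (isGeneralizedCharacter_of_isCharacter (E.isCharacter_part χ (one_mul 1)))
    (isGeneralizedCharacter_of_isCharacter (E.isCharacter_part χ (by norm_num)))

/-- `H × K → G` has fibres of equal size. -/
theorem sum_HK (F : G → ℂ) : ∃ n : ℕ, (Nat.card E.H : ℂ) * Nat.card E.K = n * Nat.card G ∧
    ∑ h : E.H, ∑ k : E.K, F ((h : G) * k) = n * ∑ g : G, F g := by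
  classical
  set m : G → ℕ := fun g => (Finset.univ.filter fun p : E.H × E.K => (p.1 : G) * p.2 = g).card with hm
  have hconst : ∀ g, m g = m 1 := by
    intro g
    obtain ⟨k, hk, c, hc, hg⟩ := E.top g
    have hk' : c⁻¹ * k * c ∈ E.K := E.normalK.conj_mem' k hk c
    let h0 : E.H := ⟨c, E.C_le_H hc⟩
    let k0 : E.K := ⟨c⁻¹ * k * c, hk'⟩
    have hg' : g = (h0 : G) * k0 := by rw [hg]; show _ = c * (c⁻¹ * k * c); group
    refine (Finset.card_equiv ((Equiv.mulLeft h0).prodCongr (Equiv.mulRight k0)) fun p => ?_).symm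
    simp only [Finset.mem_filter, Finset.mem_univ, true_and, Equiv.prodCongr_apply, Prod.map_fst,
      Prod.map_snd, Equiv.coe_mulLeft, Equiv.coe_mulRight, Subgroup.coe_mul]
    rw [hg', mul_assoc, mul_left_cancel_iff, ← mul_assoc, ← mul_eq_right (b := (k0 : G))]
  have hsum : ∀ F : G → ℂ, ∑ h : E.H, ∑ k : E.K, F ((h : G) * k) = (m 1 : ℂ) * ∑ g : G, F g := by
    intro F
    rw [← Fintype.sum_prod_type' (fun (h : E.H) (k : E.K) => F ((h : G) * k)),
      ← Finset.sum_fiberwise Finset.univ (fun p : E.H × E.K => (p.1 : G) * p.2), Finset.mul_sum]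
    refine Finset.sum_congr rfl fun g _ => ?_
    rw [Finset.sum_congr rfl fun p hp => by rw [(Finset.mem_filter.1 hp).2], Finset.sum_const,
      nsmul_eq_mul, ← hconst g]
  refine ⟨m 1, ?_, hsum F⟩
  have h1 := hsum fun _ => 1
  simpa [Nat.card_eq_fintype_card] using h1

/-- The isometry. -/
theorem classInner_f_f [DecidableEq (IrrCharacter G)] {χ χ' : IrrCharacter G} (hχ : E.InTh χ)
    (hχ' : E.InTh χ') : classInner (E.f χ) (E.f χ') = if χ = χ' then 1 else 0 := by
  classical
  haveI : Fintype (chr E.D.N) := Fintype.ofFinite _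
  haveI := E.D.normal
  set π := sandRep (E.repK χ) (E.repK χ') with hπ
  set πh : E.H → Module.End ℂ
      (Matrix (Fin (IrrModel.of χ).d) (Fin (IrrModel.of χ').d) ℂ) := fun h =>
    sand (E.repH χ h) (E.repH χ' h⁻¹) with hπh
  set Φ := sand (E.Jm χ) (E.Jm χ') with hΦ
  have hN : (Nat.card E.D.N : ℂ) ≠ 0 := Nat.cast_ne_zero.2 Nat.card_pos.ne'
  have hK : (Nat.card E.K : ℂ) ≠ 0 := Nat.cast_ne_zero.2 Nat.card_pos.ne'
  -- the product of two values is a trace
  have h1 : ∀ h : E.H, E.f χ h * conj (E.f χ' h) = LinearMap.trace ℂ _ (πh h * Φ) := by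
    intro h
    rw [← isGeneralizedCharacter_apply_inv (E.isGeneralized_f χ'), f_eq_trace, f_eq_trace, hπh, hΦ,
      sand_mul, trace_sand, Matrix.trace_mul_comm (E.repH χ' h⁻¹)]
  -- average over `N`
  have h2 : ∑ h : E.H, LinearMap.trace ℂ _ (πh h * Φ) =
      ∑ h : E.H, LinearMap.trace ℂ _ (((Nat.card E.D.N : ℂ)⁻¹ • ∑ l : E.D.N, π l) * (πh h * Φ)) := by
    simp only [smul_mul_assoc, Finset.sum_mul, map_smul, map_sum, ← Finset.smul_sum]
    rw [Finset.sum_comm]
    have h3 : ∀ l : E.D.N, ∑ h : E.H, LinearMap.trace ℂ _ (π l * (πh h * Φ)) =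
        ∑ h : E.H, LinearMap.trace ℂ _ (πh h * Φ) := by
      intro l
      let lH : E.H := ⟨((l : E.K) : G), E.N_le_H l.2⟩
      refine Fintype.sum_equiv (Equiv.mulLeft lH) _ _ fun h => ?_
      rw [← mul_assoc]
      congr 2
      rw [hπ, hπh, sandRep_apply, sand_mul, Equiv.coe_mulLeft]
      simp only [_root_.mul_inv_rev, map_mul, repK, repH, MonoidHom.comp_apply,
        Subgroup.coe_subtype, InvMemClass.coe_inv, lH]
    rw [Finset.sum_congr rfl fun l _ => h3 l, Finset.sum_const, Finset.card_univ, nsmul_eq_mul,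
      smul_eq_mul, ← mul_assoc, ← Nat.card_eq_fintype_card, inv_mul_cancel₀ hN, one_mul]
  -- the key identity
  have h4 : ∀ h : E.H,
      LinearMap.trace ℂ _ (((Nat.card E.D.N : ℂ)⁻¹ • ∑ l : E.D.N, π l) * (πh h * Φ)) =
        LinearMap.trace ℂ _ (πh h * proj π 1) := by
    intro h
    obtain ⟨c, hc, hr⟩ := E.exists_realised h
    obtain ⟨r, hQ, hQi⟩ := hr χ
    obtain ⟨r', hQ', hQi'⟩ := hr χ'
    rw [← sum_proj E.D.N E.D.comm π, Finset.sum_mul, map_sum]
    rw [Finset.sum_congr rfl fun f _ => LinearMap.trace_mul_comm ℂ (proj π f.1) (πh h * Φ)]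
    have h5 := Setting.isometry_key hχ hχ' r r' E.odd (E.autoC_pow c hc)
    rw [hQ, hQi'] at h5
    exact h5
  rw [classInner, Finset.sum_congr rfl fun h _ => h1 h, h2, Finset.sum_congr rfl fun h _ => h4 h]
  -- back to `G`
  obtain ⟨n, hn, hsum⟩ := E.sum_HK fun g => (χ : G → ℂ) g * (χ' : G → ℂ) g⁻¹
  have h6 : ∀ h : E.H, LinearMap.trace ℂ _ (πh h * proj π 1) =
      (Nat.card E.K : ℂ)⁻¹ * ∑ k : E.K, (χ : G → ℂ) ((h : G) * k) * (χ' : G → ℂ) ((h : G) * k)⁻¹ := by
    intro h
    rw [proj, mul_smul_comm, map_smul, Finset.mul_sum, map_sum, smul_eq_mul]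
    refine congrArg _ (Finset.sum_congr rfl fun k _ => ?_)
    simp only [MonoidHom.one_apply, Units.val_one, inv_one, one_smul, hπ, hπh, sandRep_apply,
      sand_mul, trace_sand]
    show (E.rep χ h * E.rep χ k).trace *
      (E.rep χ' ((k⁻¹ : E.K) : G) * E.rep χ' ((h⁻¹ : E.H) : G)).trace = _
    rw [← map_mul, ← map_mul, trace_rep, trace_rep]
    simp
  rw [Finset.sum_congr rfl fun h _ => h6 h, ← Finset.mul_sum, hsum]
  have hGi := classInner_irr χ χ'
  rw [classInner] at hGi
  simp only [← irr_apply_inv] at hGi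
  have hG : (Nat.card G : ℂ) ≠ 0 := Nat.cast_ne_zero.2 Nat.card_pos.ne'
  have hH : (Nat.card E.H : ℂ) ≠ 0 := Nat.cast_ne_zero.2 Nat.card_pos.ne'
  rw [← hGi]
  field_simp
  linear_combination -(∑ g : G, (χ : G → ℂ) g * (χ' : G → ℂ) g⁻¹) * hn

/-- `f` is plus or minus an irreducible character. -/
theorem exists_irr_f {χ : IrrCharacter G} (hχ : E.InTh χ) :
    ∃ (ψ : IrrCharacter E.H) (e : ℂ), (e = 1 ∨ e = -1) ∧ E.f χ = e • (ψ : E.H → ℂ) := by
  classical
  obtain ⟨ψ, h | h⟩ := eq_irr_or_neg_of_classInner_self_eq_one (E.isGeneralized_f χ)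
    (by rw [E.classInner_f_f hχ hχ, if_pos rfl])
  · exact ⟨ψ, 1, Or.inl rfl, by rw [h, one_smul]⟩
  · exact ⟨ψ, -1, Or.inr rfl, by rw [h, neg_one_smul]⟩

theorem eq_of_corr {χ χ' : IrrCharacter G} (hχ : E.InTh χ) (hχ' : E.InTh χ')
    (ψ : IrrCharacter E.H) (h : classInner (E.f χ) (ψ : E.H → ℂ) ≠ 0)
    (h' : classInner (E.f χ') (ψ : E.H → ℂ) ≠ 0) : χ = χ' := by
  classical
  obtain ⟨a, e, he, hf⟩ := E.exists_irr_f hχ
  obtain ⟨b, e', he', hf'⟩ := E.exists_irr_f hχ'
  rw [hf, classInner_smul_left, classInner_irr] at h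
  rw [hf', classInner_smul_left, classInner_irr] at h'
  have ha : a = ψ := by by_contra hne; exact h (by rw [if_neg hne, mul_zero])
  have hb : b = ψ := by by_contra hne; exact h' (by rw [if_neg hne, mul_zero])
  have hf2 := E.classInner_f_f hχ hχ'
  rw [hf, hf', ha, hb, classInner_smul_left, classInner_smul_right, classInner_irr, if_pos rfl,
    mul_one] at hf2
  by_contra hne
  rw [if_neg hne] at hf2
  rcases he with rfl | rfl <;> rcases he' with rfl | rfl <;> simp at hf2

theorem Jfun_act (s : S) (k : E.K) : E.D.Jfun (E.D.act s k) = E.D.Jfun k := by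
  simp only [Setting.Jfun, Finset.sum_apply]
  refine Finset.sum_congr rfl fun θ _ => ?_
  have h := ((E.D.mdl θ).iw s).coef_cj (E.D.mdl θ).J k
  rwa [(E.D.mdl θ).J_act s] at h

theorem f_twist (s : S) (χ : IrrCharacter G) (h : E.H) :
    E.f (twistIrr (E.act s) χ) h = E.f χ (E.actH s h) := by
  refine Fintype.sum_equiv (E.D.act s).toEquiv _ _ fun k => ?_
  show E.D.Jfun k * (χ : G → ℂ) (E.act s ((h : G) * k)) =
    E.D.Jfun (E.D.act s k) * (χ : G → ℂ) (E.act s (h : G) * E.act s (k : G))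
  rw [E.Jfun_act, map_mul]

/-- The attached character of an invariant character is invariant. -/
theorem inv_of_corr {χ : IrrCharacter G} (hχ : E.InTh χ) (hinv : Inv E.act χ)
    (ψ : IrrCharacter E.H) (h : classInner (E.f χ) (ψ : E.H → ℂ) ≠ 0) : Inv E.actH ψ := by
  classical
  intro s x
  obtain ⟨a, e, he, hf⟩ := E.exists_irr_f hχ
  rw [hf, classInner_smul_left, classInner_irr] at h
  have ha : a = ψ := by by_contra hne; exact h (by rw [if_neg hne, mul_zero])
  have h2 := E.f_twist s χ x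
  rw [inv_iff_twist_eq.1 hinv s, hf, ha, Pi.smul_apply, Pi.smul_apply, smul_eq_mul, smul_eq_mul] at h2
  exact mul_left_cancel₀ (by rcases he with rfl | rfl <;> norm_num) h2.symm

/-- An invariant constituent makes all constituents invariant. -/
theorem inTh_of_constituent (χ : IrrCharacter G) {θ : IrrCharacter E.K} (hθ : E.D.IsInv θ)
    (h : classInner (fun k : E.K => (χ : G → ℂ) k) (θ : E.K → ℂ) ≠ 0) : E.InTh χ := by
  intro ξ hξ
  by_contra hne
  have e : (fun k : E.K => (E.repK χ k).trace) = fun k : E.K => (χ : G → ℂ) k :=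
    funext fun k => E.trace_rep χ k
  rw [e] at hne
  obtain ⟨g, hg⟩ := CfsgLib.Clifford.exists_conj_of_constituent E.normalK χ.2 θ.2 ξ.2 h hne
  refine hξ fun s n => ?_
  rw [hg]
  obtain ⟨k, hk, c, hc, rfl⟩ := E.top g
  have key : ∀ m : E.K, CfsgLib.Clifford.conjChar E.normalK (θ : E.K → ℂ) (k * c) m =
      (θ : E.K → ℂ) (E.cK c m) := by
    intro m
    show (θ : E.K → ℂ) _ = _
    have h2 := irr_isClassFunction θ (E.cK c m) ⟨k, hk⟩
    rw [← h2]
    refine congrArg (θ : E.K → ℂ) (Subtype.ext ?_)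
    show k * c * (m : G) * (k * c)⁻¹ = k * ((E.cK c m : E.K) : G) * k⁻¹
    rw [E.cK_coe]
    group
  rw [key, key, ← hθ s (E.cK c n)]
  exact congrArg (θ : E.K → ℂ) ((E.autoC c hc).comm s n).symm

/-- Invariant characters have invariant constituents on `K`. -/
theorem inTh_of_inv {χ : IrrCharacter G} (hinv : Inv E.act χ) : E.InTh χ := by
  haveI := E.normalK
  haveI := E.solv
  obtain ⟨θ, h1, h2⟩ := CfsgLib.CoprimeFixed.exists_inv_constituent E.act E.K E.stableK
    (E.cop.coprime_dvd_left (Subgroup.index_dvd_card E.K)) (Or.inr inferInstance) χ hinv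
  exact E.inTh_of_constituent χ (fun s k => h2 s k) h1

/-- Invariant characters of `H` do not occur outside `P`. -/
theorem classInner_rest {χ : IrrCharacter G} (hχ : E.InTh χ) {ψ : IrrCharacter E.H}
    (hψ : Inv E.actH ψ) :
    classInner (fun h => (E.repH χ h * (1 - E.Pm χ)).trace) (ψ : E.H → ℂ) = 0 := by
  classical
  haveI := E.normalN
  haveI := E.solv
  set NH := E.N.subgroupOf E.H with hNH
  haveI : NH.Normal := inferInstanceAs (E.N.subgroupOf E.H).Normal
  haveI : Fintype NH := Fintype.ofFinite _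
  obtain ⟨φ', h1, h2⟩ := CfsgLib.CoprimeFixed.exists_inv_constituent E.actH NH
    (fun s x hx => E.stableN s _ hx)
    (E.cop.coprime_dvd_left ((Subgroup.index_dvd_card NH).trans (Subgroup.card_subgroup_dvd_card E.H)))
    (Or.inr inferInstance) ψ hψ
  let e : E.D.N ≃* NH :=
    { toFun := fun x => ⟨⟨((x : E.K) : G), E.N_le_H x.2⟩, x.2⟩
      invFun := fun y => ⟨⟨((y : E.H) : G), E.le y.2⟩, y.2⟩
      left_inv := fun x => rfl
      right_inv := fun y => rfl
      map_mul' := fun x y => rfl }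
  by_contra hne
  refine CfsgLib.Clifford.classInner_ne_zero_of_constituent (E.isCharacter_rest χ) ψ.2 φ'.2 hne h1 ?_
  rw [← classInner_comp_equiv e]
  refine E.D.classInner_sigma_one_sub_P hχ (twistIrr e φ') fun s x y hy => ?_
  show (φ' : NH → ℂ) (e y) = (φ' : NH → ℂ) (e x)
  rw [← h2 s (e x)]
  refine congrArg (φ' : NH → ℂ) (Subtype.ext (Subtype.ext ?_))
  exact congrArg (fun z : E.K => (z : G)) hy

/-- The parity criterion. -/
theorem odd_iff {χ : IrrCharacter G} (hχ : E.InTh χ) {ψ : IrrCharacter E.H} (hψ : Inv E.actH ψ)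
    {m : ℕ} (hm : classInner (fun h : E.H => (χ : G → ℂ) h) (ψ : E.H → ℂ) = m) :
    Odd m ↔ classInner (E.f χ) (ψ : E.H → ℂ) ≠ 0 := by
  classical
  obtain ⟨a, ha⟩ := classInner_char_nat (E.isCharacter_part χ (one_mul 1)) (irr_isCharacter ψ)
  obtain ⟨b, hb⟩ := classInner_char_nat (E.isCharacter_part χ (e := -1) (by norm_num))
    (irr_isCharacter ψ)
  have hres : (fun h : E.H => (χ : G → ℂ) h) = (fun h => (E.repH χ h * E.part χ 1).trace) +
      (fun h => (E.repH χ h * E.part χ (-1)).trace) +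
      fun h => (E.repH χ h * (1 - E.Pm χ)).trace := by
    funext h
    rw [Pi.add_apply, Pi.add_apply, ← Matrix.trace_add, ← Matrix.trace_add, ← Matrix.mul_add,
      ← Matrix.mul_add, show E.part χ 1 + E.part χ (-1) + (1 - E.Pm χ) = 1 by
        simp only [part]; module, Matrix.mul_one]
    exact (E.trace_rep χ _).symm
  rw [hres, classInner_add_left, classInner_add_left, E.classInner_rest hχ hψ, add_zero, ha, hb]
    at hm
  have hm' : m = a + b := by exact_mod_cast hm.symm
  obtain ⟨ψ0, e, he, hf⟩ := E.exists_irr_f hχ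
  have hd : (a : ℂ) - (b : ℂ) = e * if ψ0 = ψ then 1 else 0 := by
    rw [← ha, ← hb, ← classInner_sub_left, ← f_eq_sub, hf, classInner_smul_left, classInner_irr]
  rw [f_eq_sub, classInner_sub_left, ha, hb, hd, hm']
  by_cases h0 : ψ0 = ψ
  · rw [if_pos h0, mul_one] at hd
    have hne : e * (if ψ0 = ψ then (1 : ℂ) else 0) ≠ 0 := by
      rw [if_pos h0]; rcases he with rfl | rfl <;> norm_num
    refine iff_of_true ?_ hne
    rcases he with rfl | rfl
    · have h2 : a = b + 1 := by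
        have h3 : (a : ℂ) = (b : ℂ) + 1 := by linear_combination hd
        exact_mod_cast h3
      exact ⟨b, by omega⟩
    · have h2 : b = a + 1 := by
        have h3 : (b : ℂ) = (a : ℂ) + 1 := by linear_combination -hd
        exact_mod_cast h3
      exact ⟨a, by omega⟩
  · rw [if_neg h0, mul_zero] at hd
    have h2 : a = b := by exact_mod_cast sub_eq_zero.1 hd
    refine iff_of_false ?_ (by simp [if_neg h0])
    rintro ⟨t, ht⟩
    omega

/-- Existence and uniqueness. -/
theorem existsUnique_odd {χ : IrrCharacter G} (hinv : Inv E.act χ) :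
    ∃! ψ : IrrCharacter E.H, Inv E.actH ψ ∧ ∃ m : ℕ,
      classInner (fun h : E.H => (χ : G → ℂ) h) (ψ : E.H → ℂ) = (m : ℂ) ∧ Odd m := by
  classical
  have hχ := E.inTh_of_inv hinv
  obtain ⟨ψ, e, he, hf⟩ := E.exists_irr_f hχ
  have hne : classInner (E.f χ) (ψ : E.H → ℂ) ≠ 0 := by
    rw [hf, classInner_smul_left, classInner_irr, if_pos rfl, mul_one]
    rcases he with rfl | rfl <;> norm_num
  have hψ := E.inv_of_corr hχ hinv ψ hne
  obtain ⟨m, hm⟩ := classInner_char_nat
    (CfsgLib.Clifford.isCharacter_subtype (irr_isCharacter χ) E.H) (irr_isCharacter ψ)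
  refine ⟨ψ, ⟨hψ, m, hm, (E.odd_iff hχ hψ hm).2 hne⟩, ?_⟩
  rintro ψ' ⟨hψ', m', hm', ho⟩
  have h := (E.odd_iff hχ hψ' hm').1 ho
  rw [hf, classInner_smul_left, classInner_irr] at h
  by_contra hc
  exact h (by rw [if_neg (Ne.symm hc), mul_zero])

/-- Injectivity. -/
theorem eq_of_odd {χ χ' : IrrCharacter G} (hinv : Inv E.act χ) (hinv' : Inv E.act χ')
    {ψ : IrrCharacter E.H} (hψ : Inv E.actH ψ) {m m' : ℕ}
    (hm : classInner (fun h : E.H => (χ : G → ℂ) h) (ψ : E.H → ℂ) = (m : ℂ)) (ho : Odd m)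
    (hm' : classInner (fun h : E.H => (χ' : G → ℂ) h) (ψ : E.H → ℂ) = (m' : ℂ)) (ho' : Odd m') :
    χ = χ' :=
  E.eq_of_corr (E.inTh_of_inv hinv) (E.inTh_of_inv hinv') ψ
    ((E.odd_iff (E.inTh_of_inv hinv) hψ hm).1 ho) ((E.odd_iff (E.inTh_of_inv hinv') hψ hm').1 ho')

/-- A character seen by `f` has invariant constituents. -/
theorem inTh_of_classInner_ne_zero {χ : IrrCharacter G} {ψ : IrrCharacter E.H}
    (h : classInner (E.f χ) (ψ : E.H → ℂ) ≠ 0) : E.InTh χ := by
  classical
  by_contra hno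
  apply h
  have hJ : E.Jm χ = 0 := by
    rw [Jm, Setting.sigma_Jfun]
    refine Finset.sum_eq_zero fun θ _ => IrrModel.sigma_coef_eq_zero _ _ ?_ _
    by_contra hne
    refine hno (E.inTh_of_constituent χ (θ := θ.1) θ.2 fun h0 => hne ?_)
    rw [Setting.mdl_char, show (fun k => (E.repK χ k).trace) = fun k : E.K => (χ : G → ℂ) k from
      funext fun k => E.trace_rep χ k]
    exact h0
  have hf : E.f χ = 0 := funext fun h => by rw [f_eq_trace, hJ, Matrix.mul_zero, Matrix.trace_zero]; rfl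
  rw [hf]
  simp [classInner]

/-- Surjectivity. -/
theorem exists_inv_odd {ψ : IrrCharacter E.H} (hψ : Inv E.actH ψ) :
    ∃ χ : IrrCharacter G, Inv E.act χ ∧ ∃ m : ℕ,
      classInner (fun h : E.H => (χ : G → ℂ) h) (ψ : E.H → ℂ) = (m : ℂ) ∧ Odd m := by
  classical
  haveI := E.normalN
  haveI := E.solv
  set NH := E.N.subgroupOf E.H with hNH
  haveI : NH.Normal := inferInstanceAs (E.N.subgroupOf E.H).Normal
  haveI : Fintype NH := Fintype.ofFinite _
  obtain ⟨φ', h1, h2⟩ := CfsgLib.CoprimeFixed.exists_inv_constituent E.actH NH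
    (fun s x hx => E.stableN s _ hx)
    (E.cop.coprime_dvd_left ((Subgroup.index_dvd_card NH).trans (Subgroup.card_subgroup_dvd_card E.H)))
    (Or.inr inferInstance) ψ hψ
  let e : E.D.N ≃* NH :=
    { toFun := fun x => ⟨⟨((x : E.K) : G), E.N_le_H x.2⟩, x.2⟩
      invFun := fun y => ⟨⟨((y : E.H) : G), E.le y.2⟩, y.2⟩
      left_inv := fun x => rfl
      right_inv := fun y => rfl
      map_mul' := fun x y => rfl }
  -- some `f` sees `ψ`
  obtain ⟨χ, hχ⟩ : ∃ χ : IrrCharacter G, classInner (E.f χ) (ψ : E.H → ℂ) ≠ 0 := by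
    by_contra hno
    push Not at hno
    have hzero : classInner (∑ χ : IrrCharacter G, (χ : G → ℂ) 1 • E.f χ) (ψ : E.H → ℂ) = 0 := by
      rw [classInner_sum_left]
      exact Finset.sum_eq_zero fun χ _ => by rw [classInner_smul_left, hno χ, mul_zero]
    have hreg : (∑ χ : IrrCharacter G, (χ : G → ℂ) 1 • E.f χ) = fun h : E.H =>
        (Nat.card G : ℂ) * ∑ k : E.K, if (h : G) * k = 1 then E.D.Jfun k else 0 := by
      funext h
      simp only [Finset.sum_apply, Pi.smul_apply, smul_eq_mul, f, Finset.mul_sum]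
      rw [Finset.sum_comm]
      refine Finset.sum_congr rfl fun k _ => ?_
      rw [Finset.sum_congr rfl fun (χ : IrrCharacter G) _ => show
        (χ : G → ℂ) 1 * (E.D.Jfun k * (χ : G → ℂ) ((h : G) * k)) =
          E.D.Jfun k * ((χ : G → ℂ) 1 * (χ : G → ℂ) ((h : G) * k)) by ring, ← Finset.mul_sum,
        sum_degree_mul_irr]
      split_ifs <;> ring
    rw [hreg] at hzero
    have hval : ∑ h : E.H, (∑ k : E.K, if (h : G) * k = 1 then E.D.Jfun k else 0) *
        conj ((ψ : E.H → ℂ) h) =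
        ∑ l : E.D.N, E.D.Jfun (l : E.K)⁻¹ * conj ((ψ : E.H → ℂ) (e l : E.H)) := by
      simp only [Finset.sum_mul, ite_mul, zero_mul]
      rw [← Fintype.sum_prod_type', ← Finset.sum_filter]
      refine (Finset.sum_bij (fun (l : E.D.N) _ => (((e l : NH) : E.H), (l : E.K)⁻¹)) ?_ ?_ ?_ ?_).symm
      · intro l _
        simp only [Finset.mem_filter, Finset.mem_univ, true_and]
        show ((l : E.K) : G) * (((l : E.K)⁻¹ : E.K) : G) = 1
        simp
      · intro l _ l' _ hll
        exact Subtype.ext (inv_injective (congrArg Prod.snd hll))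
      · rintro ⟨h, k⟩ hp
        simp only [Finset.mem_filter, Finset.mem_univ, true_and] at hp
        have hhk : (h : G) = (k : G)⁻¹ := eq_inv_of_mul_eq_one_left hp
        have hkN : (k : G) ∈ E.N := by
          obtain ⟨l, hl, c, hc, hlc⟩ := (E.memH h).1 h.2
          have hcK : c ∈ E.K := by
            have : c = l⁻¹ * (k : G)⁻¹ := by rw [← hhk, hlc]; group
            rw [this]
            exact E.K.mul_mem (E.K.inv_mem (E.le hl)) (E.K.inv_mem k.2)
          have hcN : c ∈ E.N := E.fix c hcK fun s => by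
            rw [E.fixC c hc s, inv_mul_cancel]; exact E.N.one_mem
          have h3 := E.N.inv_mem (E.N.mul_mem hl hcN)
          rwa [← hlc, hhk, inv_inv] at h3
        refine ⟨(⟨k, hkN⟩ : E.D.N)⁻¹, Finset.mem_univ _, Prod.ext (Subtype.ext ?_) ?_⟩
        · show (((k⁻¹ : E.K)) : G) = (h : G)
          rw [hhk, InvMemClass.coe_inv]
        · show ((k⁻¹)⁻¹ : E.K) = k
          rw [inv_inv]
      · intro l _
        rfl
    rw [classInner, Finset.sum_congr rfl fun h _ => mul_assoc (Nat.card G : ℂ) _ _, ← Finset.mul_sum,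
      hval] at hzero
    rcases mul_eq_zero.1 hzero with h3 | h3
    · exact inv_ne_zero (Nat.cast_ne_zero.2 Nat.card_pos.ne') h3
    rcases mul_eq_zero.1 h3 with h4 | h4
    · exact Nat.cast_ne_zero.2 Nat.card_pos.ne' h4
    refine E.D.sum_Jfun_ne_zero
      (ψ := fun l : E.D.N => (ψ : E.H → ℂ) ((e l : NH) : E.H)) ?_ (twistIrr e φ') ?_ ?_ h4
    · exact CharCorr.isCharacter_comp (irr_isCharacter ψ) (NH.subtype.comp e.toMonoidHom)
    · intro s x y hy
      show (φ' : NH → ℂ) (e y) = (φ' : NH → ℂ) (e x)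
      rw [← h2 s (e x)]
      refine congrArg (φ' : NH → ℂ) (Subtype.ext (Subtype.ext ?_))
      exact congrArg (fun z : E.K => (z : G)) hy
    · show classInner ((fun n : NH => (ψ : E.H → ℂ) n) ∘ e) ((φ' : NH → ℂ) ∘ e) ≠ 0
      rw [classInner_comp_equiv]
      exact h1
  have hχT := E.inTh_of_classInner_ne_zero hχ
  have hinv : Inv E.act χ := by
    rw [inv_iff_twist_eq]
    intro s
    have hs : classInner (E.f (twistIrr (E.act s) χ)) (ψ : E.H → ℂ) ≠ 0 := by
      rw [show E.f (twistIrr (E.act s) χ) = E.f χ ∘ E.actH s from funext fun h => E.f_twist s χ h,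
        show (ψ : E.H → ℂ) = (ψ : E.H → ℂ) ∘ E.actH s from funext fun h => (hψ s h).symm,
        classInner_comp_equiv]
      exact hχ
    exact E.eq_of_corr (E.inTh_of_classInner_ne_zero hs) hχT ψ hs hχ
  obtain ⟨m, hm⟩ := classInner_char_nat
    (CfsgLib.Clifford.isCharacter_subtype (irr_isCharacter χ) E.H) (irr_isCharacter ψ)
  exact ⟨χ, hinv, m, hm, (E.odd_iff hχT hψ hm).2 hχ⟩

end Config

end CfsgLib.IsaacsOdd
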