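import Cfsg.Agent.Lib.IsaacsOdd.JOperator
import Cfsg.Agent.Lib.CharCorr.Basic
import Cfsg.Agent.Lib.CharCorr.InvariantLayer

/-!
# The universal `J` of an abelian section, and its isometry property
-/

set_option autoImplicit false
set_option linter.unusedSectionVars false
set_option linter.style.haveILetI false

open Cfsg CfsgLib.Characters Matrix
open scoped ComplexConjugate

namespace CfsgLib.IsaacsOdd

universe u v

namespace Setting

variable {K : Type u} [Group K] [Fintype K] {S : Type v} [Group S] [Fintype S] (D : Setting K S)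

/-- Invariance of a function under the operators. -/
def IsInv (θ : IrrCharacter K) : Prop := ∀ s k, (θ : K → ℂ) (D.act s k) = (θ : K → ℂ) k

/-- The invariant irreducible characters. -/
abbrev InvIrr : Type u := {θ : IrrCharacter K // D.IsInv θ}

noncomputable instance instFintypeInvIrr : Fintype D.InvIrr := Fintype.ofFinite _

/-- A chosen model. -/
noncomputable def mdl (θ : D.InvIrr) : D.Mdl :=
  ⟨IrrModel.of θ.1, fun s k => by rw [IrrModel.of_char]; exact θ.2 s k⟩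

theorem mdl_char (θ : D.InvIrr) : (D.mdl θ).m.char = θ.1 := IrrModel.of_char θ.1

/-- The universal `J`. -/
noncomputable def Jfun : K → ℂ := ∑ θ : D.InvIrr, (D.mdl θ).m.coef (D.mdl θ).J

/-- The universal `P`. -/
noncomputable def Pfun : K → ℂ := ∑ θ : D.InvIrr, (D.mdl θ).m.coef (D.mdl θ).P

variable {ι κ : Type*} [Fintype ι] [DecidableEq ι] [Fintype κ] [DecidableEq κ]

/-- All constituents are invariant. -/
def InTheta (σ : K →* Matrix ι ι ℂ) : Prop :=
  ∀ θ : IrrCharacter K, ¬D.IsInv θ → classInner (fun k => (σ k).trace) (θ : K → ℂ) = 0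

/-- The universal element for a linear character. -/
noncomputable def Yσ (σ : K →* Matrix ι ι ℂ) (f : K →* ℂˣ) : Matrix ι ι ℂ :=
  ∑ θ : D.InvIrr, sigmaFun σ ((D.mdl θ).m.coef ((D.mdl θ).uext f))

theorem sigma_Jfun (σ : K →* Matrix ι ι ℂ) :
    sigmaFun σ D.Jfun = ∑ θ : D.InvIrr, sigmaFun σ ((D.mdl θ).m.coef (D.mdl θ).J) :=
  sigmaFun_sum _ _ _

theorem sigma_Pfun (σ : K →* Matrix ι ι ℂ) :
    sigmaFun σ D.Pfun = ∑ θ : D.InvIrr, sigmaFun σ ((D.mdl θ).m.coef (D.mdl θ).P) :=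
  sigmaFun_sum _ _ _

/-- Components of different characters annihilate each other. -/
theorem component_mul_ne (σ : K →* Matrix ι ι ℂ) (m m' : IrrModel K) (h : m.char ≠ m'.char)
    (T : Matrix (Fin m.d) (Fin m.d) ℂ) (T' : Matrix (Fin m'.d) (Fin m'.d) ℂ) :
    sigmaFun σ (m.coef T) * sigmaFun σ (m'.coef T') = 0 := by
  classical
  have hZ : sigmaFun σ (m.coef 1) * sigmaFun σ (m'.coef 1) = 0 := by
    simp only [sigmaFun, Finset.sum_mul]
    simp only [Finset.mul_sum, Matrix.smul_mul, Matrix.mul_smul, smul_smul, ← map_mul]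
    rw [Finset.sum_congr rfl fun k _ => Fintype.sum_equiv (Equiv.mulLeft k)
      (fun k' => (m'.coef 1 k' * m.coef 1 k) • σ (k * k'))
      (fun x => (m'.coef 1 (k⁻¹ * x) * m.coef 1 k) • σ x) fun k' => by simp]
    rw [Finset.sum_comm]
    refine Finset.sum_eq_zero fun x _ => ?_
    rw [← Finset.sum_smul]
    refine smul_eq_zero.2 (Or.inl ?_)
    have h2 := CharCorr.sum_irr_mul_conj m'.char m.char x⁻¹
    rw [if_neg (Ne.symm h)] at h2
    rw [← mul_zero ((m'.d : ℂ) / (Nat.card K : ℂ) * ((m.d : ℂ) / (Nat.card K : ℂ))), ← h2,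
      Finset.mul_sum]
    refine Finset.sum_congr rfl fun k _ => ?_
    rw [IrrModel.coef_one, IrrModel.coef_one, irr_apply_inv m.char k, _root_.mul_inv_rev, inv_inv,
      classFunction_mul_comm (irr_isClassFunction m'.char) x⁻¹ k]
    ring
  have e1 : sigmaFun σ (m.coef T) = sigmaFun σ (m.coef T) * sigmaFun σ (m.coef 1) := by
    rw [m.sigma_coef_mul, Matrix.mul_one]
  have e2 : sigmaFun σ (m'.coef T') = sigmaFun σ (m'.coef 1) * sigmaFun σ (m'.coef T') := by
    rw [m'.sigma_coef_mul, Matrix.one_mul]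
  rw [e1, e2, Matrix.mul_assoc, ← Matrix.mul_assoc (sigmaFun σ (m.coef 1)), hZ, Matrix.zero_mul,
    Matrix.mul_zero]

theorem sum_component_mul (σ : K →* Matrix ι ι ℂ)
    (T T' : ∀ θ : D.InvIrr, Matrix (Fin (D.mdl θ).m.d) (Fin (D.mdl θ).m.d) ℂ) :
    (∑ θ, sigmaFun σ ((D.mdl θ).m.coef (T θ))) * (∑ θ, sigmaFun σ ((D.mdl θ).m.coef (T' θ))) =
      ∑ θ, sigmaFun σ ((D.mdl θ).m.coef (T θ * T' θ)) := by
  classical
  rw [Finset.sum_mul]
  refine Finset.sum_congr rfl fun θ _ => ?_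
  rw [Finset.mul_sum, Finset.sum_eq_single θ ?_ (by simp), IrrModel.sigma_coef_mul]
  intro θ' _ hne
  refine component_mul_ne σ _ _ ?_ _ _
  rw [mdl_char, mdl_char]
  exact fun h => hne (Subtype.ext h.symm)

theorem sigma_J_sq (σ : K →* Matrix ι ι ℂ) :
    sigmaFun σ D.Jfun * sigmaFun σ D.Jfun = sigmaFun σ D.Pfun := by
  rw [sigma_Jfun, sum_component_mul, sigma_Pfun]
  simp only [Mdl.J_mul_J]

theorem sigma_P_mul_J (σ : K →* Matrix ι ι ℂ) :
    sigmaFun σ D.Pfun * sigmaFun σ D.Jfun = sigmaFun σ D.Jfun := by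
  rw [sigma_Jfun, sigma_Pfun, sum_component_mul]
  simp only [Mdl.P_mul_J]

theorem sigma_J_mul_P (σ : K →* Matrix ι ι ℂ) :
    sigmaFun σ D.Jfun * sigmaFun σ D.Pfun = sigmaFun σ D.Jfun := by
  rw [sigma_Jfun, sigma_Pfun, sum_component_mul]
  simp only [Mdl.J_mul_P]

theorem sigma_P_sq (σ : K →* Matrix ι ι ℂ) :
    sigmaFun σ D.Pfun * sigmaFun σ D.Pfun = sigmaFun σ D.Pfun := by
  rw [sigma_Pfun, sum_component_mul]
  simp only [Mdl.P_mul_P]

theorem Z_comm (σ : K →* Matrix ι ι ℂ) (m : IrrModel K) (k : K) :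
    σ k * sigmaFun σ (m.coef 1) * σ k⁻¹ = sigmaFun σ (m.coef 1) := by
  rw [conj_sigmaFun σ (m.coef 1) (MulAut.conj k) fun x => by
    rw [← map_mul, ← map_mul]; rfl]
  congr 1
  funext x
  rw [IrrModel.coef_one, IrrModel.coef_one]
  congr 1
  rw [MulAut.conj_symm_apply]
  have h := irr_isClassFunction m.char x⁻¹ k⁻¹
  simpa [mul_assoc] using h

/-- The components of the invariant characters sum to the identity. -/
theorem sum_component_one {σ : K →* Matrix ι ι ℂ} (hσ : D.InTheta σ) :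
    ∑ θ : D.InvIrr, sigmaFun σ ((D.mdl θ).m.coef 1) = 1 := by
  classical
  rw [← sum_sigma_coef_one σ IrrModel.of IrrModel.of_char,
    ← Finset.sum_subset (Finset.subset_univ (Finset.univ.filter fun θ : IrrCharacter K => D.IsInv θ))
      fun θ _ hθ => IrrModel.sigma_coef_eq_zero _ σ (by
        rw [IrrModel.of_char]; exact hσ θ (by simpa using hθ)) 1]
  exact (Finset.sum_subtype (Finset.univ.filter fun θ : IrrCharacter K => D.IsInv θ) (by simp)
    (fun θ => sigmaFun σ ((IrrModel.of θ).coef 1))).symm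

/-- An invariant twist of an invariant character is trivial. -/
theorem mem_M_of_inv (X : D.Mdl) {f : K →* ℂˣ} (hf : f ∈ chr D.N)
    (h : D.IsInv (X.m.twist f).char) : f ∈ X.M := by
  classical
  have hg : ∀ s, f * (tw (D.act s) f)⁻¹ ∈ X.M := by
    intro s
    refine ⟨(chr D.N).mul_mem hf ((chr D.N).inv_mem (D.tw_mem_chr (D.act_mem s) hf)), fun k => ?_⟩
    obtain ⟨k, rfl⟩ := (D.act s).surjective k
    have h1 := h s k
    rw [IrrModel.twist_char, IrrModel.twist_char, X.inv s k] at h1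
    rw [MonoidHom.mul_apply, MonoidHom.inv_apply, tw_apply,
      show (D.act s : K ≃* K).symm (D.act s k) = k from (D.act s).symm_apply_apply k, Units.val_mul,
      Units.val_inv_eq_inv_val, X.inv s k, mul_comm ((f (D.act s k)) : ℂ), mul_assoc, h1,
      ← mul_assoc, inv_mul_cancel₀ (Units.ne_zero _), one_mul]
  have hprod : (∏ s : S, tw (D.act s) f) = 1 := by
    refine D.fix_chr (Subgroup.prod_mem _ fun s _ => D.tw_mem_chr (D.act_mem s) hf) fun t => ?_
    rw [show tw (D.act t) (∏ s : S, tw (D.act s) f) = ∏ s : S, tw (D.act t) (tw (D.act s) f) from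
      map_prod (⟨⟨tw (D.act t), tw_one _⟩, tw_mul _⟩ : (K →* ℂˣ) →* (K →* ℂˣ)) _ _]
    refine Fintype.prod_equiv (Equiv.mulLeft t) _ _ fun s => ?_
    rw [tw_tw, Equiv.coe_mulLeft, map_mul]; rfl
  have hpow : f ^ Nat.card S ∈ X.M := by
    have h2 : (∏ s : S, f * (tw (D.act s) f)⁻¹) ∈ X.M := Subgroup.prod_mem _ fun s _ => hg s
    have e : (∏ s : S, f * (tw (D.act s) f)⁻¹) = f ^ Nat.card S := MonoidHom.ext fun k => by
      have hp := congrArg (fun g : K →* ℂˣ => g k) hprod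
      simp only [MonoidHom.finsetProd_apply, MonoidHom.one_apply] at hp
      simp only [MonoidHom.finsetProd_apply, MonoidHom.mul_apply, MonoidHom.inv_apply,
        MonoidHom.pow_apply, Finset.prod_mul_distrib, Finset.prod_inv_distrib, hp, inv_one, mul_one,
        Finset.prod_const, Finset.card_univ, Nat.card_eq_fintype_card]
    exact e ▸ h2
  obtain ⟨j, q, hjq⟩ := D.exists_inv_card
  have h3 := X.M.pow_mem hpow j
  have e : (f ^ Nat.card S) ^ j = f := MonoidHom.ext fun k => by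
    rw [MonoidHom.pow_apply, MonoidHom.pow_apply, ← pow_mul, hjq, pow_add, pow_mul, ← map_pow f k (Nat.card K),
      pow_card_eq_one', map_one, one_pow, mul_one, pow_one]
  exact e ▸ h3

/-! ## Automorphisms -/

/-- The image of an invariant character. -/
noncomputable def mapIrr (α : D.Auto) (θ : D.InvIrr) : D.InvIrr :=
  ⟨CharCorr.twistIrr α.e.symm θ.1, fun s k => by
    show (θ.1 : K → ℂ) (α.e.symm (D.act s k)) = (θ.1 : K → ℂ) (α.e.symm k)
    obtain ⟨k, rfl⟩ := α.e.surjective k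
    rw [α.comm, α.e.symm_apply_apply, α.e.symm_apply_apply, θ.2]⟩

theorem mapIrr_bijective (α : D.Auto) : Function.Bijective (D.mapIrr α) := by
  refine Finite.injective_iff_bijective.1 fun θ θ' h => Subtype.ext (Subtype.ext (funext fun k => ?_))
  have h2 := congrFun (congrArg (fun x : D.InvIrr => (x.1 : K → ℂ)) h) (α.e k)
  simpa [mapIrr] using h2

/-- A chosen intertwiner to the image. -/
noncomputable def iwMap (α : D.Auto) (θ : D.InvIrr) :
    Intw α.e (D.mdl θ).m (D.mdl (D.mapIrr α θ)).m :=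
  (exists_intw _ _ _ fun k => by
    rw [mdl_char, mdl_char]
    show (θ.1 : K → ℂ) (α.e.symm (α.e k)) = _
    rw [α.e.symm_apply_apply]).some

variable {D}

/-- The data of a twist: an automorphism composed with conjugation by an element of `N`, realised
by a pair of matrices on `σ`. -/
structure Realised (α : D.Auto) (β : K ≃* K) (σ : K →* Matrix ι ι ℂ) where
  /-- the matrix -/
  Q : Matrix ι ι ℂ
  /-- its inverse -/
  Qi : Matrix ι ι ℂ
  left_inv : Qi * Q = 1
  spec : ∀ k, Q * σ k * Qi = σ (β k)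
  close : ∃ l ∈ D.N, ∀ k, β k = l * α.e k * l⁻¹

theorem Realised.mul {α : D.Auto} {β : K ≃* K} {σ : K →* Matrix ι ι ℂ} (r : Realised α β σ)
    (A B : Matrix ι ι ℂ) : r.Q * (A * B) * r.Qi = r.Q * A * r.Qi * (r.Q * B * r.Qi) := by
  simp only [Matrix.mul_assoc]
  rw [← Matrix.mul_assoc r.Qi r.Q, r.left_inv, Matrix.one_mul]

theorem Realised.component {α : D.Auto} {β : K ≃* K} {σ : K →* Matrix ι ι ℂ} (r : Realised α β σ)
    (θ : D.InvIrr) {T : Matrix (Fin (D.mdl θ).m.d) (Fin (D.mdl θ).m.d) ℂ}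
    (hT : ∀ l ∈ D.N, (D.mdl θ).m.rho l * T = T * (D.mdl θ).m.rho l) :
    r.Q * sigmaFun σ ((D.mdl θ).m.coef T) * r.Qi =
      sigmaFun σ ((D.mdl (D.mapIrr α θ)).m.coef ((D.iwMap α θ).cj T)) := by
  rw [conj_sigmaFun σ _ β r.spec]
  congr 1
  funext k
  obtain ⟨k, rfl⟩ := β.surjective k
  rw [β.symm_apply_apply]
  obtain ⟨l, hl, hb⟩ := r.close
  rw [hb, ← (D.iwMap α θ).coef_cj T k]
  set m' := (D.mdl (D.mapIrr α θ)).m
  set T' := (D.iwMap α θ).cj T with hT'
  have hcomm : m'.rho l * T' = T' * m'.rho l := by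
    obtain ⟨l0, rfl⟩ := α.e.surjective l
    rw [hT', ← (D.iwMap α θ).cj_rho, ← Intw.cj_mul, ← Intw.cj_mul, hT l0 ((α.mem l0).1 hl)]
  simp only [IrrModel.coef, _root_.mul_inv_rev, inv_inv, map_mul, Matrix.mul_assoc]
  congr 1
  rw [Matrix.trace_mul_comm (m'.rho l)]
  simp only [Matrix.mul_assoc]
  rw [← hcomm, ← Matrix.mul_assoc (m'.rho l⁻¹), ← map_mul, inv_mul_cancel, map_one, Matrix.one_mul]

theorem commN_of_inA (θ : D.InvIrr) {f : K →* ℂˣ} (hf : f ∈ chr D.N)
    {T : Matrix (Fin (D.mdl θ).m.d) (Fin (D.mdl θ).m.d) ℂ} (hT : (D.mdl θ).InA f T) :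
    ∀ l ∈ D.N, (D.mdl θ).m.rho l * T = T * (D.mdl θ).m.rho l := fun l hl => by
  rw [hT l, hf l hl, Units.val_one, one_smul]

theorem commN_J (θ : D.InvIrr) :
    ∀ l ∈ D.N, (D.mdl θ).m.rho l * (D.mdl θ).J = (D.mdl θ).J * (D.mdl θ).m.rho l := fun l hl => by
  rw [Mdl.J, Matrix.mul_smul, Matrix.smul_mul, Finset.mul_sum, Finset.sum_mul]
  congr 1
  exact Finset.sum_congr rfl fun a _ => Mdl.u_commute_rho _ a hl

theorem Realised.J {α : D.Auto} {β : K ≃* K} {σ : K →* Matrix ι ι ℂ} (r : Realised α β σ) :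
    r.Q * sigmaFun σ D.Jfun * r.Qi = sigmaFun σ D.Jfun := by
  rw [sigma_Jfun, Finset.mul_sum, Finset.sum_mul]
  refine Fintype.sum_bijective _ (D.mapIrr_bijective α) _ _ fun θ => ?_
  rw [r.component θ (commN_J θ), Mdl.J_map α (D.iwMap α θ)]

theorem Realised.P {α : D.Auto} {β : K ≃* K} {σ : K →* Matrix ι ι ℂ} (r : Realised α β σ) :
    r.Q * sigmaFun σ D.Pfun * r.Qi = sigmaFun σ D.Pfun := by
  rw [← sigma_J_sq, r.mul, r.J]

theorem Realised.Y {α : D.Auto} {β : K ≃* K} {σ : K →* Matrix ι ι ℂ} (r : Realised α β σ)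
    {f : K →* ℂˣ} (hf : f ∈ chr D.N) : r.Q * D.Yσ σ f * r.Qi = D.Yσ σ (tw α.e f) := by
  rw [Yσ, Finset.mul_sum, Finset.sum_mul]
  refine Fintype.sum_bijective _ (D.mapIrr_bijective α) _ _ fun θ => ?_
  rw [r.component θ (commN_of_inA θ hf (Mdl.inA_uext _ f)), Mdl.uext_map α (D.iwMap α θ)]

/-! ## The isometry -/

/-- Left multiplication on rectangular matrices. -/
noncomputable def lm (A : Matrix ι ι ℂ) : Module.End ℂ (Matrix ι κ ℂ) :=
  sand A (1 : Matrix κ κ ℂ)

theorem lm_mul (A B : Matrix ι ι ℂ) : (lm (A * B) : Module.End ℂ (Matrix ι κ ℂ)) = lm A * lm B := by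
  rw [lm, lm, lm, sand_mul, Matrix.one_mul]

theorem lm_one : (lm 1 : Module.End ℂ (Matrix ι κ ℂ)) = 1 := sand_one

theorem lm_zero : (lm 0 : Module.End ℂ (Matrix ι κ ℂ)) = 0 := LinearMap.ext fun y => by simp [lm]

/-- `lm` as a linear map. -/
noncomputable def lmHom : Matrix ι ι ℂ →ₗ[ℂ] Module.End ℂ (Matrix ι κ ℂ) where
  toFun := lm
  map_add' A B := LinearMap.ext fun y => by simp [lm, Matrix.add_mul]
  map_smul' c A := LinearMap.ext fun y => by simp [lm]

theorem Yσ_conj (σ : K →* Matrix ι ι ℂ) (f : K →* ℂˣ) (k : K) :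
    σ k * D.Yσ σ f * σ k⁻¹ = (f k : ℂ) • D.Yσ σ f := by
  rw [Yσ, Finset.mul_sum, Finset.sum_mul, Finset.smul_sum]
  refine Finset.sum_congr rfl fun θ _ => ?_
  rw [conj_sigmaFun σ _ (MulAut.conj k) fun x => by rw [← map_mul, ← map_mul]; rfl]
  simp only [sigmaFun, Finset.smul_sum, smul_smul]
  refine Finset.sum_congr rfl fun x _ => ?_
  congr 1
  rw [MulAut.conj_symm_apply]
  simp only [IrrModel.coef, _root_.mul_inv_rev, inv_inv, map_mul]
  rw [Matrix.mul_assoc, Matrix.trace_mul_comm, Matrix.mul_assoc, Matrix.mul_assoc,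
    ← Matrix.mul_assoc ((D.mdl θ).m.rho k), (D.mdl θ).inA_uext f k]
  simp only [Matrix.smul_mul, Matrix.mul_smul, Matrix.trace_smul, smul_eq_mul, Matrix.mul_assoc,
    ← map_mul (D.mdl θ).m.rho k, mul_inv_cancel, map_one, Matrix.mul_one]
  ring

theorem pi_mul_lmY (σ : K →* Matrix ι ι ℂ) (σ' : K →* Matrix κ κ ℂ) (f : K →* ℂˣ) (k : K) :
    sandRep σ σ' k * lm (D.Yσ σ f) = (f k : ℂ) • (lm (D.Yσ σ f) * sandRep σ σ' k) := by
  refine LinearMap.ext fun y => ?_
  show σ k * (D.Yσ σ f * y * (1 : Matrix κ κ ℂ)) * σ' k⁻¹ =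
    (f k : ℂ) • (D.Yσ σ f * (σ k * y * σ' k⁻¹) * (1 : Matrix κ κ ℂ))
  rw [Matrix.mul_one, Matrix.mul_one]
  have h : σ k * D.Yσ σ f = (f k : ℂ) • (D.Yσ σ f * σ k) := by
    rw [← Matrix.smul_mul, ← Yσ_conj σ f k, Matrix.mul_assoc _ _ (σ k), ← map_mul, inv_mul_cancel,
      map_one, Matrix.mul_one]
  rw [← Matrix.mul_assoc, h]
  simp only [Matrix.smul_mul, Matrix.mul_assoc]

theorem lmY_proj (σ : K →* Matrix ι ι ℂ) (σ' : K →* Matrix κ κ ℂ) (f g : K →* ℂˣ) :
    lm (D.Yσ σ f) * proj (sandRep σ σ') g = proj (sandRep σ σ') (f * g) * lm (D.Yσ σ f) := by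
  rw [proj, proj, mul_smul_comm, smul_mul_assoc, Finset.mul_sum, Finset.sum_mul]
  congr 1
  refine Finset.sum_congr rfl fun k _ => ?_
  rw [mul_smul_comm, smul_mul_assoc, pi_mul_lmY, smul_smul, MonoidHom.mul_apply, Units.val_mul,
    mul_inv, mul_comm (f k : ℂ)⁻¹, mul_assoc, inv_mul_cancel₀ (Units.ne_zero _), mul_one]

/-- `E_f` factors through `E_1`. -/
theorem proj_eq {σ : K →* Matrix ι ι ℂ} {σ' : K →* Matrix κ κ ℂ} (hσ : D.InTheta σ)
    (hσ' : D.InTheta σ') {f : K →* ℂˣ} (hf : f ∈ chr D.N) :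
    proj (sandRep σ σ') f =
      lm (D.Yσ σ f) * proj (sandRep σ σ') 1 * lm (D.Yσ σ f⁻¹) := by
  classical
  rw [mul_assoc, ← show lm (D.Yσ σ f⁻¹) * proj (sandRep σ σ') f =
    proj (sandRep σ σ') 1 * lm (D.Yσ σ f⁻¹) by rw [lmY_proj, show f⁻¹ * f = 1 from inv_mul_cancel f], ← mul_assoc,
    ← lm_mul]
  refine LinearMap.ext fun y => ?_
  show proj (sandRep σ σ') f y =
    D.Yσ σ f * D.Yσ σ f⁻¹ * proj (sandRep σ σ') f y * (1 : Matrix κ κ ℂ)
  rw [Matrix.mul_one, Yσ, Yσ, sum_component_mul]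
  set w := proj (sandRep σ σ') f y with hw
  have hy : ∀ k, σ k * w = (f k : ℂ) • (w * σ' k) := fun k => by
    have h := eigen_proj_apply (sandRep σ σ') f k y
    rw [sandRep_apply, sand_apply, ← hw] at h
    rw [← Matrix.smul_mul, ← h, Matrix.mul_assoc, ← map_mul, inv_mul_cancel, map_one, Matrix.mul_one]
  conv_lhs => rw [← Matrix.one_mul w, ← D.sum_component_one hσ]
  rw [Matrix.sum_mul, Matrix.sum_mul]
  refine Finset.sum_congr rfl fun θ _ => ?_
  rw [Mdl.uext_mul_uext_inv]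
  by_cases hM : f ∈ (D.mdl θ).M
  · rw [if_pos hM]
  rw [if_neg hM, IrrModel.coef_zero]
  simp only [sigmaFun, Pi.zero_apply, zero_smul, Finset.sum_const_zero, Matrix.zero_mul]
  have hc : (fun k => (D.mdl θ).m.coef 1 k * (f k : ℂ)) = ((D.mdl θ).m.twist f⁻¹).coef 1 := by
    funext k
    rw [IrrModel.coef_one, IrrModel.coef_one, IrrModel.twist_char]
    simp only [map_inv, MonoidHom.inv_apply, inv_inv]
    show _ = ((D.mdl θ).m.d : ℂ) / (Nat.card K : ℂ) * _
    ring
  rw [← sigmaFun, sigmaFun_intertwine σ σ' f _ hy, hc, IrrModel.sigma_coef_eq_zero _ σ' ?_,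
    Matrix.mul_zero]
  refine hσ' _ fun hinv => hM ?_
  have := (D.mdl θ).M.inv_mem (D.mem_M_of_inv (D.mdl θ) ((chr D.N).inv_mem hf) hinv)
  exact (congrArg (· ∈ (D.mdl θ).M) (inv_inv f)).mp this

theorem proj_one_intertwine (σ : K →* Matrix ι ι ℂ) (σ' : K →* Matrix κ κ ℂ) (c : K → ℂ)
    (y : Matrix ι κ ℂ) :
    sigmaFun σ c * proj (sandRep σ σ') 1 y = proj (sandRep σ σ') 1 y * sigmaFun σ' c := by
  have hy : ∀ k, σ k * proj (sandRep σ σ') 1 y =
      (((1 : K →* ℂˣ) k : ℂˣ) : ℂ) • (proj (sandRep σ σ') 1 y * σ' k) := fun k => by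
    have h := eigen_proj_apply (sandRep σ σ') 1 k y
    rw [sandRep_apply, sand_apply] at h
    rw [← Matrix.smul_mul, ← h, Matrix.mul_assoc, ← map_mul, inv_mul_cancel, map_one, Matrix.mul_one]
  rw [sigmaFun_intertwine σ σ' 1 c hy]
  simp

theorem J_Y_J (σ : K →* Matrix ι ι ℂ) (f : K →* ℂˣ) :
    sigmaFun σ D.Jfun * D.Yσ σ f * sigmaFun σ D.Jfun = D.Yσ σ f⁻¹ * sigmaFun σ D.Pfun := by
  rw [sigma_Jfun, sigma_Pfun, Yσ, Yσ, sum_component_mul, sum_component_mul, sum_component_mul]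
  refine Finset.sum_congr rfl fun θ _ => ?_
  rw [Mdl.J_mul_uext, Matrix.mul_assoc, Mdl.J_mul_J]

/-- A radical criterion for an automorphism of odd order fixing the character. -/
theorem mem_R_of_mul_mapM (X : D.Mdl) (α : D.Auto) (i : Intw α.e X.m X.m) {m : ℕ} (hm : Odd m)
    (hα : (α.e : MulAut K) ^ m = 1) {a : X.M} (ha : a * Mdl.mapM i α.mem a ∈ X.R) : a ∈ X.R := by
  set h := Mdl.mapM i α.mem with hh
  have hR : ∀ b ∈ X.R, h b ∈ X.R := fun b hb => (Mdl.mapM_mem_R_iff α i b).2 hb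
  have hit : ∀ j : ℕ, ((h^[j] a).1 : K →* ℂˣ) = tw ((α.e : MulAut K) ^ j) a.1 := by
    intro j
    induction j with
    | zero => rfl
    | succ j ih =>
      rw [Function.iterate_succ_apply', hh, Mdl.mapM_coe, ← hh, ih, tw_tw, pow_succ']
      rfl
  have hev : ∀ t : ℕ, h^[2 * t] a * a⁻¹ ∈ X.R := by
    intro t
    induction t with
    | zero => simp
    | succ t ih =>
      rw [show 2 * (t + 1) = 2 * t + 1 + 1 by ring, Function.iterate_succ_apply',
        Function.iterate_succ_apply']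
      have h2 : h (h a) * a⁻¹ ∈ X.R := by
        have h3 := X.R.mul_mem (hR _ ha) (X.R.inv_mem ha)
        rw [map_mul, _root_.mul_inv_rev, mul_comm (h a) (h (h a)), mul_assoc,
          mul_inv_cancel_left] at h3
        exact h3
      have h4 := hR _ (hR _ ih)
      rw [map_mul, map_mul, map_inv, map_inv] at h4
      have h5 := X.R.mul_mem h4 h2
      rwa [mul_assoc, inv_mul_cancel_left] at h5
  obtain ⟨t, ht⟩ := hm
  have hfix : h^[m] a = a := Subtype.ext (by rw [hit, hα]; rfl)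
  rw [ht] at hfix
  have hfix : h (h^[2 * t] a) = a := (Function.iterate_succ_apply' h (2 * t) a).symm.trans hfix
  have h6 := X.R.mul_mem (hR _ (hev t)) ha
  rw [map_mul, hfix, map_inv, mul_comm a (h a), mul_assoc, inv_mul_cancel_left, ← sq] at h6
  have h7 := X.R.pow_mem h6 D.half
  rwa [← pow_mul, D.two_half, pow_succ, X.pow_card_M, one_mul] at h7

/-- The local trace identity behind the isometry. -/
theorem isometry_key {α : D.Auto} {β : K ≃* K} {σ : K →* Matrix ι ι ℂ}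
    {σ' : K →* Matrix κ κ ℂ} (hσ : D.InTheta σ) (hσ' : D.InTheta σ') (r : Realised α β σ)
    (r' : Realised α β σ') {m : ℕ} (hm : Odd m) (hα : (α.e : MulAut K) ^ m = 1)
    [Fintype (chr D.N)] :
    ∑ f : chr D.N, LinearMap.trace ℂ _ (sand r.Q r'.Qi *
        sand (sigmaFun σ D.Jfun) (sigmaFun σ' D.Jfun) * proj (sandRep σ σ') f.1) =
      LinearMap.trace ℂ _ (sand r.Q r'.Qi * proj (sandRep σ σ') 1) := by
  classical
  set E : (K →* ℂˣ) → Module.End ℂ (Matrix ι κ ℂ) := fun f => proj (sandRep σ σ') f with hE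
  set πh : Module.End ℂ (Matrix ι κ ℂ) := sand r.Q r'.Qi with hπ
  set A : Module.End ℂ (Matrix ι κ ℂ) := πh * E 1 with hA
  -- commutation of `πh`
  have hπlm : ∀ B, πh * lm B = lm (r.Q * B * r.Qi) * πh := by
    intro B
    refine LinearMap.ext fun y => ?_
    show r.Q * (B * y * (1 : Matrix κ κ ℂ)) * r'.Qi = r.Q * B * r.Qi * (r.Q * y * r'.Qi) * (1 : Matrix κ κ ℂ)
    simp only [Matrix.mul_one, Matrix.mul_assoc]
    rw [← Matrix.mul_assoc r.Qi r.Q, r.left_inv, Matrix.one_mul]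
  have hπk : ∀ k, πh * sandRep σ σ' k = sandRep σ σ' (β k) * πh := by
    intro k
    refine LinearMap.ext fun y => ?_
    show r.Q * (σ k * y * σ' k⁻¹) * r'.Qi = σ (β k) * (r.Q * y * r'.Qi) * σ' (β k)⁻¹
    rw [← map_inv, ← r.spec, ← r'.spec]
    simp only [Matrix.mul_assoc]
    rw [← Matrix.mul_assoc r.Qi r.Q, r.left_inv, Matrix.one_mul,
      ← Matrix.mul_assoc r'.Qi r'.Q, r'.left_inv, Matrix.one_mul]
  have hπE : πh * E 1 = E 1 * πh := by
    simp only [hE, proj, mul_smul_comm, smul_mul_assoc, Finset.mul_sum, Finset.sum_mul]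
    congr 1
    refine Fintype.sum_equiv β.toEquiv _ _ fun k => ?_
    rw [hπk]
    simp
  have hA' : A = E 1 * A := by
    rw [hA, ← mul_assoc, ← hπE, mul_assoc, show E 1 * E 1 = E 1 from proj_mul_self _ _]
  -- the component functional
  set τ : ∀ θ : D.InvIrr, Matrix (Fin (D.mdl θ).m.d) (Fin (D.mdl θ).m.d) ℂ → ℂ := fun θ T =>
    LinearMap.trace ℂ _ (lm (sigmaFun σ ((D.mdl θ).m.coef T)) * A) with hτ
  -- each summand
  have step : ∀ f : chr D.N, LinearMap.trace ℂ _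
      (πh * sand (sigmaFun σ D.Jfun) (sigmaFun σ' D.Jfun) * E f.1) =
      ∑ θ : D.InvIrr, τ θ ((D.mdl θ).uext f.1⁻¹ * (D.mdl θ).uext (tw α.e f.1⁻¹) * (D.mdl θ).P) := by
    intro f
    have hΦ : sand (sigmaFun σ D.Jfun) (sigmaFun σ' D.Jfun) * (lm (D.Yσ σ f.1) * E 1) =
        lm (D.Yσ σ f.1⁻¹ * sigmaFun σ D.Pfun) * E 1 := by
      refine LinearMap.ext fun y => ?_
      show sigmaFun σ D.Jfun * (D.Yσ σ f.1 * E 1 y * (1 : Matrix κ κ ℂ)) * sigmaFun σ' D.Jfun =
        D.Yσ σ f.1⁻¹ * sigmaFun σ D.Pfun * E 1 y * (1 : Matrix κ κ ℂ)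
      rw [Matrix.mul_one, Matrix.mul_one, ← J_Y_J]
      simp only [Matrix.mul_assoc]
      rw [← proj_one_intertwine σ σ' D.Jfun y]
    rw [show E f.1 = _ from proj_eq hσ hσ' f.2, ← mul_assoc, LinearMap.trace_mul_comm,
      mul_assoc πh, hΦ, ← mul_assoc, ← mul_assoc, mul_assoc (lm _) πh, hπlm, ← mul_assoc,
      ← lm_mul, mul_assoc, ← hA]
    rw [r.mul, r.Y ((chr D.N).inv_mem f.2), r.P, sigma_Pfun, Yσ, Yσ, sum_component_mul,
      sum_component_mul, hτ]
    rw [← map_sum (LinearMap.trace ℂ (Matrix ι κ ℂ)), ← Finset.sum_mul]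
    congr 2
    refine (map_sum (lmHom (κ := κ)) _ _).trans (Finset.sum_congr rfl fun θ _ => ?_)
    rw [Matrix.mul_assoc]
    rfl
  rw [Finset.sum_congr rfl fun f _ => step f, Finset.sum_comm]
  -- the target
  have htarget : LinearMap.trace ℂ _ A = ∑ θ : D.InvIrr, τ θ 1 := by
    rw [hτ, ← map_sum, ← Finset.sum_mul,
      show ∑ θ : D.InvIrr, (lm (sigmaFun σ ((D.mdl θ).m.coef 1)) : Module.End ℂ (Matrix ι κ ℂ)) =
        lm (∑ θ : D.InvIrr, sigmaFun σ ((D.mdl θ).m.coef 1)) from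
        (map_sum (lmHom (κ := κ)) _ _).symm, D.sum_component_one hσ, lm_one, one_mul]
  rw [htarget]
  refine Finset.sum_congr rfl fun θ _ => ?_
  set X := D.mdl θ with hX
  -- `τ` is linear
  have τ_smul : ∀ (c : ℂ) T, τ θ (c • T) = c * τ θ T := fun c T => by
    simp only [hτ]
    rw [show sigmaFun σ (X.m.coef (c • T)) = c • sigmaFun σ (X.m.coef T) by
      rw [IrrModel.coef_smul]; simp [sigmaFun, Finset.smul_sum, smul_smul],
      show (lm (c • sigmaFun σ (X.m.coef T)) : Module.End ℂ (Matrix ι κ ℂ)) =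
        c • lm (sigmaFun σ (X.m.coef T)) from (lmHom (κ := κ)).map_smul c _,
      smul_mul_assoc, map_smul, smul_eq_mul]
  have τ_sum : ∀ {γ : Type u} (s : Finset γ) (T : γ → Matrix (Fin X.m.d) (Fin X.m.d) ℂ),
      τ θ (∑ x ∈ s, T x) = ∑ x ∈ s, τ θ (T x) := fun s T => by
    simp only [hτ]
    rw [IrrModel.coef_sum, sigmaFun_sum,
      show (lm (∑ x ∈ s, sigmaFun σ (X.m.coef (T x))) : Module.End ℂ (Matrix ι κ ℂ)) =
        ∑ x ∈ s, lm (sigmaFun σ (X.m.coef (T x))) from map_sum (lmHom (κ := κ)) _ _,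
      Finset.sum_mul, map_sum]
  by_cases hfix : D.mapIrr α θ = θ
  swap
  · -- a moved character contributes nothing
    have hzero : ∀ T, τ θ T = 0 := by
      intro T
      set Z := sigmaFun σ (X.m.coef 1) with hZ
      have hsand : sigmaFun σ (X.m.coef T) =
          Z * sigmaFun σ (X.m.coef T) * Z := by
        rw [hZ, IrrModel.sigma_coef_mul, IrrModel.sigma_coef_mul, Matrix.one_mul, Matrix.mul_one]
      have hZE : (lm Z : Module.End ℂ (Matrix ι κ ℂ)) * E 1 = E 1 * lm Z := by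
        simp only [hE, proj, mul_smul_comm, smul_mul_assoc, Finset.mul_sum, Finset.sum_mul]
        congr 1
        refine Finset.sum_congr rfl fun k _ => ?_
        congr 1
        refine LinearMap.ext fun y => ?_
        show Z * (σ k * y * σ' k⁻¹) * (1 : Matrix κ κ ℂ) = σ k * (Z * y * (1 : Matrix κ κ ℂ)) * σ' k⁻¹
        rw [Matrix.mul_one, Matrix.mul_one]
        have hk : Z * σ k = σ k * Z := by
          conv_lhs => rw [hZ, ← Z_comm σ X.m k]
          rw [Matrix.mul_assoc, ← map_mul, inv_mul_cancel, map_one, Matrix.mul_one, hZ]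
        simp only [← Matrix.mul_assoc]
        rw [hk]
      have key : lm Z * (A * lm Z) = 0 := by
        rw [hA, mul_assoc πh, ← hZE, ← mul_assoc πh, hπlm, mul_assoc, ← mul_assoc (lm Z), ← lm_mul,
          show r.Q * Z * r.Qi = _ from
            r.component θ (fun l _ => by rw [Matrix.mul_one, Matrix.one_mul]),
          component_mul_ne σ _ _ ?_, lm_zero, zero_mul]
        rw [mdl_char, mdl_char]
        exact fun h => hfix (Subtype.ext h.symm)
      simp only [hτ]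
      rw [hsand, lm_mul, lm_mul, mul_assoc, mul_assoc, LinearMap.trace_mul_comm, mul_assoc,
        mul_assoc, key, mul_zero, map_zero]
    rw [hzero 1, Finset.sum_eq_zero fun f _ => hzero _]
  -- a fixed character
  obtain ⟨i⟩ : Nonempty (Intw α.e X.m X.m) := exists_intw _ _ _ fun k => by
    have h2 := congrFun (congrArg (fun x : D.InvIrr => (x.1 : K → ℂ)) hfix) (α.e k)
    simp only [mapIrr, CharCorr.twistIrr_apply, MulEquiv.symm_apply_apply] at h2
    rw [hX, mdl_char]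
    exact h2.symm
  have hvanish : ∀ (a : X.M), a ≠ 1 → τ θ (X.u a) = 0 := by
    intro a ha
    simp only [hτ]
    have hk : ∀ k, sandRep σ σ' k * lm (sigmaFun σ (X.m.coef (X.u a))) =
        (a.1 k : ℂ) • ((lm (sigmaFun σ (X.m.coef (X.u a))) : Module.End ℂ (Matrix ι κ ℂ)) *
          sandRep σ σ' k) := by
      intro k
      refine LinearMap.ext fun y => ?_
      show σ k * (sigmaFun σ (X.m.coef (X.u a)) * y * (1 : Matrix κ κ ℂ)) * σ' k⁻¹ =
        (a.1 k : ℂ) • (sigmaFun σ (X.m.coef (X.u a)) * (σ k * y * σ' k⁻¹) * (1 : Matrix κ κ ℂ))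
      rw [Matrix.mul_one, Matrix.mul_one]
      have hc : σ k * sigmaFun σ (X.m.coef (X.u a)) * σ k⁻¹ =
          (a.1 k : ℂ) • sigmaFun σ (X.m.coef (X.u a)) := by
        rw [conj_sigmaFun σ _ (MulAut.conj k) fun x => by rw [← map_mul, ← map_mul]; rfl]
        simp only [sigmaFun, Finset.smul_sum, smul_smul]
        refine Finset.sum_congr rfl fun x _ => ?_
        congr 1
        rw [MulAut.conj_symm_apply]
        simp only [IrrModel.coef, _root_.mul_inv_rev, inv_inv, map_mul]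
        rw [Matrix.mul_assoc, Matrix.trace_mul_comm, Matrix.mul_assoc, Matrix.mul_assoc,
          ← Matrix.mul_assoc (X.m.rho k), X.inA_u a k]
        simp only [Matrix.smul_mul, Matrix.mul_smul, Matrix.trace_smul, smul_eq_mul,
          Matrix.mul_assoc, ← map_mul X.m.rho k, mul_inv_cancel, map_one, Matrix.mul_one]
        ring
      rw [← Matrix.mul_assoc, show σ k * sigmaFun σ (X.m.coef (X.u a)) =
        (a.1 k : ℂ) • (sigmaFun σ (X.m.coef (X.u a)) * σ k) by
        rw [← Matrix.smul_mul, ← hc, Matrix.mul_assoc _ _ (σ k), ← map_mul, inv_mul_cancel, map_one,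
          Matrix.mul_one]]
      simp only [Matrix.smul_mul, Matrix.mul_assoc]
    have hLE : lm (sigmaFun σ (X.m.coef (X.u a))) * E 1 =
        E a.1 * lm (sigmaFun σ (X.m.coef (X.u a))) := by
      simp only [hE, proj, mul_smul_comm, smul_mul_assoc, Finset.mul_sum, Finset.sum_mul]
      congr 1
      refine Finset.sum_congr rfl fun k _ => ?_
      rw [hk, smul_smul, inv_mul_cancel₀ (Units.ne_zero _)]
      simp
    rw [hA', ← mul_assoc, hLE, mul_assoc, LinearMap.trace_mul_comm, mul_assoc, hA, mul_assoc,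
      show E 1 * E a.1 = 0 from proj_mul_proj_of_ne _ fun h => ha (Subtype.ext h.symm), mul_zero,
      mul_zero, map_zero]
  set h := Mdl.mapM i α.mem with hh
  -- only the radical survives
  have hterm : ∀ a : X.M, τ θ (X.u a⁻¹ * X.u (h a⁻¹) * X.P) =
      if a ∈ X.R then (Nat.card X.R : ℂ)⁻¹ * τ θ 1 else 0 := by
    intro a
    rw [Mdl.P, Matrix.mul_smul, τ_smul, Finset.mul_sum, τ_sum,
      Finset.sum_congr rfl fun r _ => by
        rw [Mdl.u_mul_u, Matrix.smul_mul, Mdl.u_mul_of_R' X r.2, τ_smul]]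
    split_ifs with haR
    · have hra : a * h a ∈ X.R := X.R.mul_mem haR ((Mdl.mapM_mem_R_iff α i a).2 haR)
      rw [Finset.sum_eq_single (⟨a * h a, hra⟩ : X.R) ?_ (by simp)]
      · have e : a⁻¹ * h a⁻¹ * (a * h a) = 1 := by
          rw [map_inv, ← mul_inv, inv_mul_cancel]
        show _ * (_ * τ θ (X.u (a⁻¹ * h a⁻¹ * (a * h a)))) = _
        rw [e, Mdl.u_one, Mdl.z_of_mem_R X (X.R.inv_mem haR), one_mul]
      · intro r _ hr
        refine mul_eq_zero_of_right _ (hvanish _ fun he => hr (Subtype.ext ?_))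
        rw [map_inv, ← mul_inv, inv_mul_eq_one] at he
        exact he.symm
    · refine mul_eq_zero_of_right _ (Finset.sum_eq_zero fun r _ => ?_)
      refine mul_eq_zero_of_right _ (hvanish _ fun he => haR (mem_R_of_mul_mapM X α i hm hα ?_))
      rw [map_inv, ← mul_inv, inv_mul_eq_one] at he
      rw [← hh, he]
      exact r.2
  -- reindex by `M`
  have hsum : ∑ f : chr D.N, τ θ (X.uext f.1⁻¹ * X.uext (tw α.e f.1⁻¹) * X.P) =
      ∑ a : X.M, τ θ (X.u a⁻¹ * X.u (h a⁻¹) * X.P) := by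
    refine (Finset.sum_of_injOn (fun a : X.M => (⟨a.1, a.2.1⟩ : chr D.N)) ?_ (by simp) ?_ ?_).symm
    · exact fun a _ b _ hab => Subtype.ext (congrArg (fun x : chr D.N => x.1) hab)
    · intro f _ hf
      rw [X.uext_of_notMem, Matrix.zero_mul, Matrix.zero_mul]
      · simp only [hτ, IrrModel.coef_zero]
        rw [show sigmaFun σ (0 : K → ℂ) = 0 by simp [sigmaFun], lm_zero, zero_mul, map_zero]
      · intro hfM
        refine hf ⟨⟨f.1, ?_⟩, Finset.mem_univ _, rfl⟩
        exact (congrArg (· ∈ X.M) (inv_inv f.1)).mp (X.M.inv_mem hfM)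
    · intro a _
      show _ = τ θ (X.uext a.1⁻¹ * X.uext (tw α.e a.1⁻¹) * X.P)
      rw [X.uext_of_mem (X.M.inv_mem a.2), X.uext_of_mem (Mdl.tw_mem_M i α.mem (X.M.inv_mem a.2))]
      rfl
  rw [hsum, Finset.sum_congr rfl fun a _ => hterm a, ← Finset.sum_filter, Finset.sum_const,
    nsmul_eq_mul, ← mul_assoc]
  have hc : ((Finset.univ.filter fun a : X.M => a ∈ X.R).card : ℂ) = (Nat.card X.R : ℂ) := by
    rw [Nat.card_eq_fintype_card, ← Fintype.card_subtype]
  rw [hc, mul_inv_cancel₀ (Nat.cast_ne_zero.2 Nat.card_pos.ne'), one_mul]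

/-! ## Values on the bottom of the section -/

theorem trace_mul_component (σ : K →* Matrix ι ι ℂ) (θ : D.InvIrr)
    (T : Matrix (Fin (D.mdl θ).m.d) (Fin (D.mdl θ).m.d) ℂ) (l : K) :
    (σ l * sigmaFun σ ((D.mdl θ).m.coef T)).trace =
      classInner (fun k => (σ k).trace) (θ.1 : K → ℂ) * ((D.mdl θ).m.rho l * T).trace := by
  classical
  have hchar : IsCharacter K fun k => (σ k).trace := by
    have h := isCharacter_trace_mul_idem σ (Q := 1) (Matrix.one_mul 1) fun g => by simp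
    simpa using h
  obtain ⟨p, hp, hps⟩ := CfsgLib.Clifford.exists_mult hchar
  have hξ : ∀ ξ : IrrCharacter K, ∑ k : K, (D.mdl θ).m.coef T k * (ξ : K → ℂ) (l * k) =
      if ξ = θ.1 then ((D.mdl θ).m.rho l * T).trace else 0 := by
    intro ξ
    split_ifs with h
    · subst h
      rw [← (D.mdl θ).m.fourier T, trace_mul_sigmaFun, (D.mdl θ).m.fourier T]
      refine Finset.sum_congr rfl fun k _ => ?_
      rw [← D.mdl_char θ, IrrModel.char_apply, map_mul]
    · have h0 : sigmaFun (IrrModel.of ξ).rho ((D.mdl θ).m.coef T) = 0 := by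
        refine (D.mdl θ).m.sigma_coef_eq_zero _ ?_ T
        have hc : (fun k => ((IrrModel.of ξ).rho k).trace) = (ξ : K → ℂ) :=
          congrArg Subtype.val (IrrModel.of_char ξ)
        rw [hc, mdl_char, classInner_irr, if_neg h]
      have h1 := trace_mul_sigmaFun (IrrModel.of ξ).rho ((D.mdl θ).m.coef T) ((IrrModel.of ξ).rho l)
      rw [h0, Matrix.mul_zero, Matrix.trace_zero] at h1
      refine (Finset.sum_congr rfl fun k _ => ?_).trans h1.symm
      rw [← map_mul, ← IrrModel.char_apply, IrrModel.of_char]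
  rw [trace_mul_sigmaFun, Finset.sum_congr rfl fun k _ => by
    rw [← map_mul, congrFun hps (l * k), Finset.sum_apply, Finset.mul_sum]]
  rw [Finset.sum_comm, Finset.sum_congr rfl fun ξ _ => show
    ∑ k : K, (D.mdl θ).m.coef T k * ((p ξ : ℂ) • (ξ : K → ℂ)) (l * k) =
      (p ξ : ℂ) * if ξ = θ.1 then ((D.mdl θ).m.rho l * T).trace else 0 by
    rw [← hξ ξ, Finset.mul_sum]
    refine Finset.sum_congr rfl fun k _ => ?_
    rw [Pi.smul_apply, smul_eq_mul]; ring]
  rw [Finset.sum_eq_single θ.1 (fun ξ _ hne => by rw [if_neg hne, mul_zero]) (by simp), if_pos rfl,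
    ← hp θ.1]

/-- An invariant irreducible character of `N` is not seen outside `P`. -/
theorem classInner_sigma_one_sub_P [Fintype D.N] {σ : K →* Matrix ι ι ℂ} (hσ : D.InTheta σ)
    (φ : IrrCharacter D.N)
    (hφ : ∀ s (x y : D.N), (y : K) = D.act s x → (φ : D.N → ℂ) y = (φ : D.N → ℂ) x) :
    classInner (fun l : D.N => (σ l * (1 - sigmaFun σ D.Pfun)).trace) (φ : D.N → ℂ) = 0 := by
  classical
  have e : (fun l : D.N => (σ l * (1 - sigmaFun σ D.Pfun)).trace) = ∑ θ : D.InvIrr,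
      classInner (fun k => (σ k).trace) (θ.1 : K → ℂ) •
        fun l : D.N => ((D.mdl θ).rhoN l * (1 - (D.mdl θ).P)).trace := by
    funext l
    rw [← D.sum_component_one hσ, sigma_Pfun, ← Finset.sum_sub_distrib, Matrix.mul_sum,
      Matrix.trace_sum, Finset.sum_apply]
    refine Finset.sum_congr rfl fun θ _ => ?_
    rw [show sigmaFun σ ((D.mdl θ).m.coef 1) - sigmaFun σ ((D.mdl θ).m.coef (D.mdl θ).P) =
      sigmaFun σ ((D.mdl θ).m.coef (1 - (D.mdl θ).P)) by
      rw [IrrModel.coef_sub]; simp [sigmaFun, sub_smul], trace_mul_component]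
    rfl
  rw [e, classInner_sum_left]
  refine Finset.sum_eq_zero fun θ _ => ?_
  rw [classInner_smul_left, (D.mdl θ).classInner_one_sub_P φ hφ, mul_zero]

/-- Positivity on the bottom of the section. -/
theorem sum_Jfun_ne_zero [Fintype D.N] {ψ : D.N → ℂ} (hψ : IsCharacter D.N ψ)
    (φ : IrrCharacter D.N)
    (hφ : ∀ s (x y : D.N), (y : K) = D.act s x → (φ : D.N → ℂ) y = (φ : D.N → ℂ) x)
    (hψφ : classInner ψ (φ : D.N → ℂ) ≠ 0) :
    ∑ l : D.N, D.Jfun (l : K)⁻¹ * conj (ψ l) ≠ 0 := by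
  classical
  haveI := D.normal
  -- an invariant character above `φ`
  have hcomm : commutator K ≤ D.N := by
    rw [commutator_def, Subgroup.commutator_le]
    exact fun a _ b _ => D.comm a b
  obtain ⟨χ, hχφ, hχinv⟩ := CfsgLib.CoprimeFixed.exists_inv_over_abelian D.act D.N D.stable
    (⊥ : Subgroup S) (by
      rw [Subgroup.index_bot]
      exact D.cop.coprime_dvd_left (Subgroup.index_dvd_card D.N)) hcomm
    (fun b hb => ⟨1, one_mem _, fun g => by rw [Subgroup.mem_bot.1 hb, map_one]; simp⟩) φ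
    (fun s x => hφ s x _ rfl)
  have hN : (Fintype.card D.N : ℂ) ≠ 0 := Nat.cast_ne_zero.2 Fintype.card_ne_zero
  have hg : ∀ θ : D.InvIrr, ∃ a : ℕ, classInner ((D.mdl θ).gl 1) ψ = (a : ℂ) := fun θ =>
    classInner_char_nat ((D.mdl θ).isCharacter_gl 1) hψ
  choose a ha using hg
  have hterm : ∑ l : D.N, D.Jfun (l : K)⁻¹ * conj (ψ l) = ((∑ θ : D.InvIrr,
      ((D.mdl θ).m.d : ℝ) / (Nat.card K : ℝ) *
        ((Nat.card (D.mdl θ).R : ℝ) / (D.mdl θ).norming) * (Nat.card D.N : ℝ) * (a θ : ℝ) : ℝ) : ℂ) := by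
    push_cast
    simp only [Jfun, Finset.sum_apply, Finset.sum_mul]
    rw [Finset.sum_comm]
    refine Finset.sum_congr rfl fun θ _ => ?_
    rw [← ha θ, classInner]
    simp only [Mdl.gl]
    rw [← mul_assoc, mul_assoc _ (Nat.card D.N : ℂ),
      mul_inv_cancel₀ (Nat.cast_ne_zero.2 Nat.card_pos.ne'), mul_one, Finset.mul_sum]
    refine Finset.sum_congr rfl fun l _ => ?_
    rw [IrrModel.coef, inv_inv, Mdl.trace_rho_J _ l.2, Mdl.Pl_one]
    show _ = _ * ((((D.mdl θ).m.rho (l : K) * (D.mdl θ).P)).trace * conj (ψ l))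
    ring
  rw [hterm, Ne, Complex.ofReal_eq_zero]
  refine ne_of_gt (Finset.sum_pos' (fun θ _ => ?_) ?_)
  · have := (D.mdl θ).norming_pos
    positivity
  refine ⟨⟨χ, hχinv⟩, Finset.mem_univ _, ?_⟩
  set θ : D.InvIrr := ⟨χ, hχinv⟩
  have ha0 : a θ ≠ 0 := by
    intro h0
    obtain ⟨p, hp, hps⟩ := CfsgLib.Clifford.exists_mult ((D.mdl θ).isCharacter_gl 1)
    obtain ⟨q, hq, hqs⟩ := CfsgLib.Clifford.exists_mult hψ
    have hpφ : p φ ≠ 0 := by
      intro hp0
      apply hχφ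
      have h1 := (D.mdl θ).classInner_one_sub_P φ hφ
      have e : (fun l : D.N => ((D.mdl θ).rhoN l * (1 - (D.mdl θ).P)).trace) =
          (fun l : D.N => (χ : K → ℂ) l) - (D.mdl θ).gl 1 := by
        funext l
        rw [Pi.sub_apply, Matrix.mul_sub, Matrix.mul_one, Matrix.trace_sub, Mdl.gl, Mdl.Pl_one]
        show _ = ((θ.1 : K → ℂ) (l : K)) - _
        rw [← D.mdl_char θ]
        rfl
      rw [e, classInner_sub_left, hp φ, hp0, Nat.cast_zero, sub_zero] at h1
      exact h1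
    have hval : classInner ((D.mdl θ).gl 1) ψ = ∑ ξ : IrrCharacter D.N, (p ξ : ℂ) * (q ξ : ℂ) := by
      rw [hps, classInner_sum_left]
      refine Finset.sum_congr rfl fun ξ _ => ?_
      rw [classInner_smul_left, classInner_conj_symm, hq, Complex.conj_natCast]
    rw [ha θ, h0, Nat.cast_zero] at hval
    have h2 : ∑ ξ : IrrCharacter D.N, p ξ * q ξ = 0 := by exact_mod_cast hval.symm
    rcases mul_eq_zero.1 (Finset.sum_eq_zero_iff.1 h2 φ (Finset.mem_univ _)) with h3 | h3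
    · exact hpφ h3
    · exact hψφ (by rw [hq, h3, Nat.cast_zero])
  have hd : (0 : ℝ) < (D.mdl θ).m.d := Nat.cast_pos.2 (Nat.pos_of_ne_zero fun h =>
    (D.mdl θ).m.d_ne_zero (by rw [h, Nat.cast_zero]))
  have := (D.mdl θ).norming_pos
  have hR : (0 : ℝ) < Nat.card (D.mdl θ).R := Nat.cast_pos.2 Nat.card_pos
  have hK : (0 : ℝ) < Nat.card K := Nat.cast_pos.2 Nat.card_pos
  have hN' : (0 : ℝ) < Nat.card D.N := Nat.cast_pos.2 Nat.card_pos
  have ha' : (0 : ℝ) < a θ := Nat.cast_pos.2 (Nat.pos_of_ne_zero ha0)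
  positivity

end Setting

end CfsgLib.IsaacsOdd
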