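import Cfsg.Agent.Lib.IsaacsOdd.Algebra
import Cfsg.Agent.Lib.Characters.GoingDown
import Mathlib.GroupTheory.FiniteAbelian.Duality
import Mathlib.RingTheory.RootsOfUnity.AlgebraicallyClosed

/-!
# An abelian section with coprime operators without fixed points

`K` is a group of odd order, `N` a normal subgroup with `K/N` abelian, and `S` acts coprimely
without fixed points on `K/N`.
-/

set_option autoImplicit false
set_option linter.unusedSectionVars false
set_option linter.style.haveILetI false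

open Cfsg CfsgLib.Characters

namespace CfsgLib.IsaacsOdd

universe u v

/-- The data of an abelian section with fixed-point-free coprime operators. -/
structure Setting (K : Type u) [Group K] (S : Type v) [Group S] where
  /-- the action -/
  act : S →* MulAut K
  /-- the bottom of the section -/
  N : Subgroup K
  normal : N.Normal
  stable : ∀ s, ∀ x ∈ N, act s x ∈ N
  comm : ∀ a b : K, a * b * a⁻¹ * b⁻¹ ∈ N
  fix : ∀ k, (∀ s, k⁻¹ * act s k ∈ N) → k ∈ N
  odd : Odd (Nat.card K)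
  cop : (Nat.card K).Coprime (Nat.card S)

/-! ## Linear characters trivial on a subgroup -/

section Chr

variable {K : Type u} [Group K]

/-- The linear characters trivial on `N`. -/
def chr (N : Subgroup K) : Subgroup (K →* ℂˣ) where
  carrier := {f | ∀ l ∈ N, f l = 1}
  one_mem' := fun _ _ => rfl
  mul_mem' := fun {x y} hx hy l hl => by rw [MonoidHom.mul_apply, hx l hl, hy l hl, one_mul]
  inv_mem' := fun {x} hx l hl => by rw [MonoidHom.inv_apply, hx l hl, inv_one]

theorem mem_chr {N : Subgroup K} {f : K →* ℂˣ} : f ∈ chr N ↔ ∀ l ∈ N, f l = 1 := Iff.rfl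

theorem pow_card_hom [Finite K] (f : K →* ℂˣ) : f ^ Nat.card K = 1 := by
  refine MonoidHom.ext fun k => ?_
  rw [MonoidHom.pow_apply, ← map_pow, pow_card_eq_one', map_one, MonoidHom.one_apply]

/-- The quotient by a subgroup containing all commutators is commutative. -/
@[reducible] def quotComm (N : Subgroup K) [N.Normal] (hab : ∀ a b : K, a * b * a⁻¹ * b⁻¹ ∈ N) :
    CommGroup (K ⧸ N) :=
  { (inferInstance : Group (K ⧸ N)) with
    mul_comm := fun a b => by
      refine QuotientGroup.induction_on a fun x => QuotientGroup.induction_on b fun y => ?_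
      show (QuotientGroup.mk (x * y) : K ⧸ N) = QuotientGroup.mk (y * x)
      refine QuotientGroup.eq.2 ?_
      have h := hab y⁻¹ x⁻¹
      rw [inv_inv, inv_inv] at h
      simpa [_root_.mul_inv_rev, mul_assoc] using h }

variable [Fintype K] (N : Subgroup K) [N.Normal]

theorem exists_chr_ne_one (hab : ∀ a b : K, a * b * a⁻¹ * b⁻¹ ∈ N) {k : K} (hk : k ∉ N) :
    ∃ f ∈ chr N, f k ≠ 1 := by
  letI := quotComm N hab
  haveI : Finite (K ⧸ N) := inferInstance
  haveI : NeZero (Monoid.exponent (K ⧸ N) : ℂ) :=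
    ⟨Nat.cast_ne_zero.2 Monoid.exponent_ne_zero_of_finite⟩
  obtain ⟨φ, hφ⟩ := CommGroup.exists_apply_ne_one_of_hasEnoughRootsOfUnity (K ⧸ N) ℂ
    (a := (k : K ⧸ N)) (fun h => hk ((QuotientGroup.eq_one_iff k).1 h))
  exact ⟨φ.comp (QuotientGroup.mk' N), fun l hl => by simp [(QuotientGroup.eq_one_iff l).2 hl], hφ⟩

theorem sum_chr_eq_zero [Fintype (chr N)] (hab : ∀ a b : K, a * b * a⁻¹ * b⁻¹ ∈ N) {k : K}
    (hk : k ∉ N) : ∑ f : chr N, ((f.1 k : ℂˣ) : ℂ) = 0 := by
  obtain ⟨g, hg, hgk⟩ := exists_chr_ne_one N hab hk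
  have h : ((g k : ℂˣ) : ℂ) * ∑ f : chr N, ((f.1 k : ℂˣ) : ℂ) = ∑ f : chr N, ((f.1 k : ℂˣ) : ℂ) := by
    rw [Finset.mul_sum]
    refine Fintype.sum_equiv (Equiv.mulLeft ⟨g, hg⟩) _ _ fun f => ?_
    show _ = (((⟨g, hg⟩ * f : chr N)).1 k : ℂ)
    simp
  have h2 : (((g k : ℂˣ) : ℂ) - 1) * ∑ f : chr N, ((f.1 k : ℂˣ) : ℂ) = 0 := by
    rw [sub_mul, h, one_mul, sub_self]
  exact (mul_eq_zero.1 h2).resolve_left (sub_ne_zero.2 fun hc => hgk (Units.val_eq_one.1 hc))

theorem sum_chr_inv [Fintype (chr N)] (hab : ∀ a b : K, a * b * a⁻¹ * b⁻¹ ∈ N) (k : K)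
    [Decidable (k ∈ N)] :
    ∑ f : chr N, ((f.1 k : ℂˣ) : ℂ)⁻¹ = if k ∈ N then (N.index : ℂ) else 0 := by
  have e : ∀ f : chr N, ((f.1 k : ℂˣ) : ℂ)⁻¹ = ((f.1 k⁻¹ : ℂˣ) : ℂ) := fun f => by simp
  rw [Finset.sum_congr rfl fun f _ => e f]
  split_ifs with h
  · rw [Finset.sum_congr rfl fun f _ => by rw [f.2 _ (N.inv_mem h), Units.val_one],
      Finset.sum_const, Finset.card_univ, ← Nat.card_eq_fintype_card]
    have hc : Nat.card (chr N) = N.index := by
      refine GoingDown.card_homs_trivial N ?_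
      rw [commutator_def, Subgroup.commutator_le]
      exact fun a _ b _ => hab a b
    rw [nsmul_eq_mul, mul_one, hc]
  · exact sum_chr_eq_zero N hab fun h' => h (by simpa using N.inv_mem h')

/-- The eigenspace projections of a conjugation sum to the average over `N`. -/
theorem sum_proj [Fintype (chr N)] [Fintype N] (hab : ∀ a b : K, a * b * a⁻¹ * b⁻¹ ∈ N) {A : Type*}
    [Ring A] [Algebra ℂ A] (π : K →* A) :
    ∑ f : chr N, proj π f.1 = (Nat.card N : ℂ)⁻¹ • ∑ l : N, π l := by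
  classical
  simp only [proj, ← Finset.smul_sum]
  rw [Finset.sum_comm]
  simp only [← Finset.sum_smul, sum_chr_inv N hab, ite_smul, zero_smul]
  rw [← Finset.sum_filter]
  have hreidx : ∑ k ∈ Finset.univ.filter (fun k => k ∈ N), (N.index : ℂ) • π k =
      (N.index : ℂ) • ∑ l : N, π l := by
    rw [Finset.smul_sum]
    exact Finset.sum_subtype _ (by simp) _
  rw [hreidx, smul_smul]
  congr 1
  have hN : (Nat.card N : ℂ) ≠ 0 := Nat.cast_ne_zero.2 Nat.card_pos.ne'
  have hi : (N.index : ℂ) ≠ 0 := Nat.cast_ne_zero.2 Subgroup.index_ne_zero_of_finite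
  rw [← Subgroup.card_mul_index N, Nat.cast_mul]
  field_simp

/-- Transport of a linear character by an automorphism. -/
def tw (α : K ≃* K) (f : K →* ℂˣ) : K →* ℂˣ := f.comp α.symm.toMonoidHom

omit [Fintype K] in
@[simp] theorem tw_apply (α : K ≃* K) (f : K →* ℂˣ) (k : K) : tw α f k = f (α.symm k) := rfl

omit [Fintype K] in
theorem tw_mul (α : K ≃* K) (f g : K →* ℂˣ) : tw α (f * g) = tw α f * tw α g :=
  MonoidHom.ext fun _ => rfl

omit [Fintype K] in
theorem tw_one (α : K ≃* K) : tw α 1 = 1 := MonoidHom.ext fun _ => rfl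

omit [Fintype K] in
theorem tw_inv (α : K ≃* K) (f : K →* ℂˣ) : tw α f⁻¹ = (tw α f)⁻¹ := MonoidHom.ext fun _ => rfl

omit [Fintype K] in
theorem tw_tw (α β : K ≃* K) (f : K →* ℂˣ) : tw β (tw α f) = tw (α.trans β) f :=
  MonoidHom.ext fun _ => rfl

end Chr

namespace Setting

variable {K : Type u} [Group K] {S : Type v} [Group S] (D : Setting K S)

/-- An automorphism preserving the section and commuting with the operators. -/
structure Auto where
  /-- the automorphism -/
  e : K ≃* K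
  mem : ∀ x, e x ∈ D.N ↔ x ∈ D.N
  comm : ∀ s k, D.act s (e k) = e (D.act s k)

theorem act_mem (s : S) (x : K) : D.act s x ∈ D.N ↔ x ∈ D.N := by
  refine ⟨fun h => ?_, D.stable s x⟩
  have h2 := D.stable s⁻¹ _ h
  rwa [map_inv, MulAut.inv_apply_self] at h2

theorem symm_mem {e : K ≃* K} (he : ∀ x, e x ∈ D.N ↔ x ∈ D.N) (x : K) :
    e.symm x ∈ D.N ↔ x ∈ D.N := by
  rw [← he, e.apply_symm_apply]

theorem tw_mem_chr {e : K ≃* K} (he : ∀ x, e x ∈ D.N ↔ x ∈ D.N) {f : K →* ℂˣ} (hf : f ∈ chr D.N) :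
    tw e f ∈ chr D.N := fun l hl => hf _ ((D.symm_mem he l).2 hl)

theorem hab : ∀ a b : K, a * b * a⁻¹ * b⁻¹ ∈ D.N := D.comm

variable [Fintype K] [Fintype S]

/-- The operators fix no nontrivial linear character of the section. -/
theorem fix_chr {f : K →* ℂˣ} (hf : f ∈ chr D.N) (h : ∀ s, tw (D.act s) f = f) : f = 1 := by
  classical
  haveI := D.normal
  letI := quotComm D.N D.comm
  refine MonoidHom.ext fun k => ?_
  let q : K →* K ⧸ D.N := QuotientGroup.mk' D.N
  let fbar : K ⧸ D.N →* ℂˣ := QuotientGroup.lift D.N f fun l hl => hf l hl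
  obtain ⟨x, hx⟩ := QuotientGroup.mk'_surjective D.N (∏ s : S, q (D.act s k))
  have hxN : x ∈ D.N := by
    refine D.fix x fun t => ?_
    refine QuotientGroup.eq.1 ?_
    have hle : D.N ≤ D.N.comap (D.act t).toMonoidHom := fun l hl => D.stable t l hl
    let qt : K ⧸ D.N →* K ⧸ D.N := QuotientGroup.map D.N D.N (D.act t).toMonoidHom hle
    have hqt : qt (q x) = q (D.act t x) := rfl
    show q x = q (D.act t x)
    rw [← hqt, hx, map_prod]
    refine Fintype.prod_equiv (Equiv.mulLeft t⁻¹) _ _ fun s => ?_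
    show q (D.act s k) = q (D.act t (D.act (t⁻¹ * s) k))
    rw [← MulAut.mul_apply, ← map_mul, mul_inv_cancel_left]
  have hinv : ∀ s, f (D.act s k) = f k := fun s => by
    have h2 := congrArg (fun g : K →* ℂˣ => g (D.act s k)) (h s)
    simp only [tw_apply] at h2
    rw [← h2]
    exact congrArg f ((D.act s).symm_apply_apply k)
  have h1 : f k ^ Nat.card S = 1 := by
    have h2 := congrArg fbar hx
    rw [map_prod] at h2
    have h3 : fbar (QuotientGroup.mk' D.N x) = f x := rfl
    rw [h3, hf x hxN] at h2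
    rw [h2, Nat.card_eq_fintype_card]
    rw [Finset.prod_congr rfl fun s _ => show fbar (q (D.act s k)) = f k from hinv s]
    rw [Finset.prod_const, Finset.card_univ]
  have h4 : f k ^ Nat.card K = 1 := by rw [← map_pow, pow_card_eq_one', map_one]
  have h5 : orderOf (f k) ∣ 1 := by
    rw [← D.cop]
    exact Nat.dvd_gcd (orderOf_dvd_of_pow_eq_one h4) (orderOf_dvd_of_pow_eq_one h1)
  exact orderOf_eq_one_iff.1 (Nat.dvd_one.1 h5)

/-- Half of the order, rounded up. -/
noncomputable def half (_D : Setting K S) : ℕ := (Nat.card K + 1) / 2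

theorem two_half : 2 * D.half = Nat.card K + 1 := by
  obtain ⟨m, hm⟩ := D.odd
  rw [half, hm]
  omega

include D in
/-- The inverse of `|S|` modulo `|K|`. -/
theorem exists_inv_card : ∃ j q : ℕ, Nat.card S * j = 1 + Nat.card K * q := by
  by_cases h1 : Nat.card K = 1
  · exact ⟨1, Nat.card S - 1, by have := Nat.card_pos (α := S); rw [h1]; omega⟩
  obtain ⟨j, -, hj⟩ := Nat.exists_mul_mod_eq_one_of_coprime D.cop.symm
    (lt_of_le_of_ne Nat.card_pos (Ne.symm h1))
  exact ⟨j, (Nat.card S * j) / Nat.card K, by rw [← hj, Nat.mod_add_div]⟩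

include D in
theorem eq_one_of_pow {A : Type*} [Monoid A] {x : A} (h1 : x ^ Nat.card K = 1)
    (h2 : x ^ Nat.card S = 1) : x = 1 := by
  have h5 : orderOf x ∣ 1 := by
    rw [← D.cop]
    exact Nat.dvd_gcd (orderOf_dvd_of_pow_eq_one h1) (orderOf_dvd_of_pow_eq_one h2)
  exact orderOf_eq_one_iff.1 (Nat.dvd_one.1 h5)

include D in
theorem eq_one_of_sq {A : Type*} [Monoid A] {x : A} (h1 : x ^ Nat.card K = 1) (h2 : x ^ 2 = 1) :
    x = 1 := by
  have h := congrArg (x ^ ·) D.two_half
  simp only [pow_mul, h2, one_pow, pow_succ, h1, one_mul] at h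
  exact h.symm

end Setting

end CfsgLib.IsaacsOdd
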